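import Mathlib.GroupTheory.Index
import Mathlib.GroupTheory.Abelianization.Defs
import Mathlib.Algebra.Group.Subgroup.Pointwise
import Mathlib.Algebra.Group.Subgroup.Ker
import Mathlib.GroupTheory.QuotientGroup.Basic
import Mathlib.GroupTheory.OrderOfElement
import Mathlib.Tactic

/-!
Fixed-point-free actions of the symmetric group of degree three on groups of order prime to six:
elementary properties.
-/

set_option autoImplicit false
set_option linter.style.haveILetI false

namespace Cfsg.Agent.S3Fpf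

variable {G : Type*} [Group G]

/-- Operators generating an action of the symmetric group of degree three without common fixed
points. -/
structure Act (G : Type*) [Group G] where
  α : MulAut G
  τ : MulAut G
  α3 : ∀ x, α (α (α x)) = x
  τ2 : ∀ x, τ (τ x) = x
  rel : ∀ x, τ (α x) = α (α (τ x))
  fpf : ∀ x, α x = x → τ x = x → x = 1

theorem exists_pow_root [Finite G] {n : ℕ} (hn : (Nat.card G).Coprime n) (g : G) :
    ∃ m : ℕ, (g ^ m) ^ n = g := by
  obtain ⟨m, hm⟩ := exists_pow_eq_self_of_coprime (x := g)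
    (n := n) ((hn.coprime_dvd_left (orderOf_dvd_natCard g)).symm)
  exact ⟨m, by rw [← pow_mul, mul_comm, pow_mul]; exact hm⟩

theorem eq_one_of_pow_eq_one [Finite G] {n : ℕ} (hn : (Nat.card G).Coprime n) {g : G}
    (hg : g ^ n = 1) : g = 1 := by
  obtain ⟨m, hm⟩ := exists_pow_root hn g
  rw [← hm, ← pow_mul, mul_comm, pow_mul, hg, one_pow]

theorem mem_of_pow_mem [Finite G] {n : ℕ} (hn : (Nat.card G).Coprime n) (K : Subgroup G) {g : G}
    (hg : g ^ n ∈ K) : g ∈ K := by
  obtain ⟨m, hm⟩ := exists_pow_root hn g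
  rw [← hm, ← pow_mul, mul_comm, pow_mul]
  exact K.pow_mem hg m

namespace Act

variable (D : Act G)

/-- A subgroup stable under both operators. -/
def Inv (K : Subgroup G) : Prop := (∀ x ∈ K, D.α x ∈ K) ∧ (∀ x ∈ K, D.τ x ∈ K)

theorem rel2 (x : G) : D.τ (D.α (D.α x)) = D.α (D.τ x) := by rw [D.rel, D.rel, D.α3]

/-- Restriction to a stable subgroup. -/
def restrict (K : Subgroup G) (hK : D.Inv K) : Act K where
  α :=
    { toFun := fun x => ⟨D.α x, hK.1 x x.2⟩
      invFun := fun x => ⟨D.α (D.α x), hK.1 _ (hK.1 x x.2)⟩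
      left_inv := fun x => Subtype.ext (D.α3 x)
      right_inv := fun x => Subtype.ext (D.α3 x)
      map_mul' := fun x y => Subtype.ext (map_mul D.α _ _) }
  τ :=
    { toFun := fun x => ⟨D.τ x, hK.2 x x.2⟩
      invFun := fun x => ⟨D.τ x, hK.2 x x.2⟩
      left_inv := fun x => Subtype.ext (D.τ2 x)
      right_inv := fun x => Subtype.ext (D.τ2 x)
      map_mul' := fun x y => Subtype.ext (map_mul D.τ _ _) }
  α3 x := Subtype.ext (D.α3 x)
  τ2 x := Subtype.ext (D.τ2 x)
  rel x := Subtype.ext (D.rel x)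
  fpf x h1 h2 := Subtype.ext (D.fpf x (congrArg Subtype.val h1) (congrArg Subtype.val h2))

@[simp] theorem restrict_α (K : Subgroup G) (hK : D.Inv K) (x : K) :
    ((D.restrict K hK).α x : G) = D.α x := rfl

@[simp] theorem restrict_τ (K : Subgroup G) (hK : D.Inv K) (x : K) :
    ((D.restrict K hK).τ x : G) = D.τ x := rfl

theorem inv_top : D.Inv ⊤ := ⟨fun _ _ => trivial, fun _ _ => trivial⟩

theorem inv_inf {K L : Subgroup G} (hK : D.Inv K) (hL : D.Inv L) : D.Inv (K ⊓ L) :=
  ⟨fun x hx => ⟨hK.1 x hx.1, hL.1 x hx.2⟩, fun x hx => ⟨hK.2 x hx.1, hL.2 x hx.2⟩⟩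

theorem inv_closure {s : Set G} (h1 : ∀ x ∈ s, D.α x ∈ Subgroup.closure s)
    (h2 : ∀ x ∈ s, D.τ x ∈ Subgroup.closure s) : D.Inv (Subgroup.closure s) :=
  ⟨fun _ hx => (Subgroup.closure_le (K := (Subgroup.closure s).comap D.α.toMonoidHom)).2 h1 hx,
    fun _ hx => (Subgroup.closure_le (K := (Subgroup.closure s).comap D.τ.toMonoidHom)).2 h2 hx⟩

theorem inv_of_characteristic {C : Subgroup G} (hC : C.Characteristic) : D.Inv C :=
  ⟨fun x hx => by have := Subgroup.characteristic_iff_comap_eq.1 hC D.α; rw [← this] at hx; exact hx,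
    fun x hx => by have := Subgroup.characteristic_iff_comap_eq.1 hC D.τ; rw [← this] at hx; exact hx⟩

theorem inv_map_subtype {K : Subgroup G} (hK : D.Inv K) {C : Subgroup K}
    (hC : (D.restrict K hK).Inv C) : D.Inv (C.map K.subtype) := by
  constructor
  · rintro _ ⟨x, hx, rfl⟩
    exact ⟨_, hC.1 x hx, rfl⟩
  · rintro _ ⟨x, hx, rfl⟩
    exact ⟨_, hC.2 x hx, rfl⟩

theorem inv_normalizer {R : Subgroup G} (hR : D.Inv R) :
    D.Inv (Subgroup.normalizer (R : Set G)) := by
  constructor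
  · intro g hg
    rw [Subgroup.mem_normalizer_iff] at hg ⊢
    intro r
    have h := hg (D.α (D.α r))
    constructor
    · intro hr
      have := hR.1 _ (h.1 (hR.1 _ (hR.1 _ hr)))
      rwa [map_mul, map_mul, map_inv, D.α3] at this
    · intro hr
      have h1 : g * D.α (D.α r) * g⁻¹ ∈ R := by
        have := hR.1 _ (hR.1 _ hr)
        simpa only [map_mul, map_inv, D.α3] using this
      have := hR.1 _ (h.2 h1)
      rwa [D.α3] at this
  · intro g hg
    rw [Subgroup.mem_normalizer_iff] at hg ⊢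
    intro r
    have h := hg (D.τ r)
    constructor
    · intro hr
      have := hR.2 _ (h.1 (hR.2 _ hr))
      rwa [map_mul, map_mul, map_inv, D.τ2] at this
    · intro hr
      have h1 : g * D.τ r * g⁻¹ ∈ R := by
        have := hR.2 _ hr
        simpa only [map_mul, map_inv, D.τ2] using this
      have := hR.2 _ (h.2 h1)
      rwa [D.τ2] at this

theorem inv_centralizer {R : Subgroup G} (hR : D.Inv R) :
    D.Inv (Subgroup.centralizer (R : Set G)) := by
  constructor <;> intro g hg <;> rw [Subgroup.mem_centralizer_iff] at hg ⊢ <;> intro r hr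
  · have := congrArg D.α (hg _ (hR.1 _ (hR.1 _ hr)))
    rwa [map_mul, map_mul, D.α3] at this
  · have := congrArg D.τ (hg _ (hR.2 _ hr))
    rwa [map_mul, map_mul, D.τ2] at this

/-- The fixed subgroup of `α`. -/
def fixed : Subgroup G := MonoidHom.eqLocus D.α.toMonoidHom (MonoidHom.id G)

theorem mem_fixed {x : G} : x ∈ D.fixed ↔ D.α x = x := Iff.rfl

theorem τ_mem_fixed {x : G} (hx : D.α x = x) : D.α (D.τ x) = D.τ x := by
  have := congrArg D.α (D.rel x)
  rwa [hx, D.α3] at this

theorem τ_eq_inv [Finite G] {x : G} (hx : D.α x = x) : D.τ x = x⁻¹ := by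
  let f : D.fixed → D.fixed := fun y => ⟨(D.τ y)⁻¹ * y,
    mul_mem (inv_mem (D.τ_mem_fixed y.2)) y.2⟩
  have hf : Function.Injective f := by
    intro y z h
    have h' : (D.τ (y : G))⁻¹ * (y : G) = (D.τ (z : G))⁻¹ * z := congrArg Subtype.val h
    have h'' : D.τ ((z : G) * (y : G)⁻¹) = (z : G) * (y : G)⁻¹ := by
      rw [map_mul, map_inv]
      have := congrArg (fun u => D.τ (z : G) * u * (y : G)⁻¹) h'
      simpa [mul_assoc] using this
    exact Subtype.ext (mul_inv_eq_one.1 (D.fpf _ (mul_mem z.2 (inv_mem y.2)) h'')).symm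
  obtain ⟨y, hy⟩ := Finite.injective_iff_surjective.1 hf ⟨x, hx⟩
  have hy' : (D.τ (y : G))⁻¹ * (y : G) = x := congrArg Subtype.val hy
  rw [← hy', map_mul, map_inv, D.τ2, mul_inv_rev, inv_inv]

theorem fixed_commute [Finite G] {x y : G} (hx : D.α x = x) (hy : D.α y = y) : Commute x y := by
  have h := D.τ_eq_inv (x := x * y) (by rw [map_mul, hx, hy])
  rw [map_mul, D.τ_eq_inv hx, D.τ_eq_inv hy, mul_inv_rev] at h
  exact Commute.inv_inv_iff.1 h

variable [Finite G] (h2 : (Nat.card G).Coprime 2) (h3 : (Nat.card G).Coprime 3)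

include h2 h3 in
/-- An element fixed modulo an abelian stable subgroup can be corrected to a fixed element. -/
theorem lift_α {A : Subgroup G} (hA : ∀ a ∈ A, ∀ b ∈ A, a * b = b * a)
    (hAi : ∀ a ∈ A, D.α a ∈ A) {g : G} (hg : g⁻¹ * D.α g ∈ A) :
    ∃ n ∈ A, D.α (g * n) = g * n := by
  set m := g⁻¹ * D.α g with hm
  have hnorm : m * D.α m * D.α (D.α m) = 1 := by
    rw [hm, map_mul, map_mul, map_inv, map_inv, D.α3]; group
  -- solve `(α n)⁻¹ * n = m`
  obtain ⟨k, hk⟩ := exists_pow_root h3 (m * m * D.α m)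
  set n := (m * m * D.α m) ^ k with hn
  have hm1 : D.α m ∈ A := hAi _ hg
  have hm2 : D.α (D.α m) ∈ A := hAi _ hm1
  have hnA : n ∈ A := A.pow_mem (mul_mem (mul_mem hg hg) hm1) k
  have hn3 : (D.α n) ^ 3 * m ^ 3 = n ^ 3 := by
    have c1 : Commute (D.α m) m := hA _ hm1 _ hg
    have c2 : Commute (D.α (D.α m)) (D.α m) := hA _ hm2 _ hm1
    have c3 : Commute (D.α (D.α m)) m := hA _ hm2 _ hg
    rw [← map_pow, hk, map_mul, map_mul, pow_succ, pow_succ, pow_one]
    calc D.α m * D.α m * D.α (D.α m) * (m * m * m)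
        = D.α m * (D.α m * D.α (D.α m) * m) * (m * m) := by group
      _ = D.α m * (m * D.α m * D.α (D.α m)) * (m * m) := by
          rw [(Commute.mul_left c1 c3).eq, mul_assoc m]
      _ = m * m * D.α m := by
          rw [hnorm, mul_one, (Commute.mul_right c1 c1).eq]
  have hinj : D.α n * m = n := by
    have hAn : D.α n ∈ A := hAi _ hnA
    have hc : Commute (D.α n * m) n⁻¹ := hA _ (mul_mem hAn hg) _ (inv_mem hnA)
    refine mul_inv_eq_one.1 (eq_one_of_pow_eq_one h3 ?_)
    rw [hc.mul_pow, (Commute.mul_pow (hA _ hAn _ hg) 3), inv_pow, hn3, mul_inv_cancel]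
  refine ⟨n, hnA, ?_⟩
  calc D.α (g * n) = g * (m * D.α n) := by rw [map_mul, hm]; group
    _ = g * (D.α n * m) := by rw [hA _ hg _ (hAi _ hnA)]
    _ = g * n := by rw [hinj]

include h2 h3 in
theorem lift_both {A : Subgroup G} (hA : ∀ a ∈ A, ∀ b ∈ A, a * b = b * a) (hAi : D.Inv A)
    {g : G} (hg : g⁻¹ * D.α g ∈ A) (hg' : g⁻¹ * D.τ g ∈ A) : g ∈ A := by
  obtain ⟨n, hn, hx⟩ := D.lift_α h2 h3 hA hAi.1 hg
  set x := g * n with hxdef
  have hu : x⁻¹ * D.τ x ∈ A := by
    rw [hxdef, map_mul, show (g * n)⁻¹ * (D.τ g * D.τ n) = n⁻¹ * (g⁻¹ * D.τ g) * D.τ n by group]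
    exact mul_mem (mul_mem (inv_mem hn) hg') (hAi.2 _ hn)
  set u := x⁻¹ * D.τ x with hudef
  have huτ : D.τ u = u⁻¹ := by rw [hudef, map_mul, map_inv, D.τ2]; group
  have huα : D.α u = u := by rw [hudef, map_mul, map_inv, hx, D.τ_mem_fixed hx]
  obtain ⟨k, hk⟩ := exists_pow_root h2 u
  have hy : D.α (x * u ^ k) = x * u ^ k := by rw [map_mul, map_pow, hx, huα]
  have hy' : D.τ (x * u ^ k) = x * u ^ k := by
    have : D.τ x = x * u := by rw [hudef]; group
    rw [map_mul, map_pow, this, huτ, inv_pow]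
    conv_lhs => arg 1; arg 2; rw [← hk]
    rw [pow_two]; group
  have h1 := D.fpf _ hy hy'
  have : g = (n * u ^ k)⁻¹ := eq_inv_of_mul_eq_one_left (by rw [← mul_assoc]; exact h1)
  rw [this]
  exact inv_mem (mul_mem hn (A.pow_mem hu k))

/-- The action on the quotient by an abelian stable normal subgroup. -/
def quotient (A : Subgroup G) [A.Normal] (hA : ∀ a ∈ A, ∀ b ∈ A, a * b = b * a) (hAi : D.Inv A) :
    Act (G ⧸ A) where
  α :=
    { toFun := QuotientGroup.map A A D.α.toMonoidHom fun x hx => hAi.1 x hx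
      invFun := fun x => QuotientGroup.map A A D.α.toMonoidHom (fun x hx => hAi.1 x hx)
        (QuotientGroup.map A A D.α.toMonoidHom (fun x hx => hAi.1 x hx) x)
      left_inv := fun x => QuotientGroup.induction_on x fun g =>
        congrArg (QuotientGroup.mk (s := A)) (D.α3 g)
      right_inv := fun x => QuotientGroup.induction_on x fun g =>
        congrArg (QuotientGroup.mk (s := A)) (D.α3 g)
      map_mul' := map_mul _ }
  τ :=
    { toFun := QuotientGroup.map A A D.τ.toMonoidHom fun x hx => hAi.2 x hx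
      invFun := QuotientGroup.map A A D.τ.toMonoidHom fun x hx => hAi.2 x hx
      left_inv := fun x => QuotientGroup.induction_on x fun g =>
        congrArg (QuotientGroup.mk (s := A)) (D.τ2 g)
      right_inv := fun x => QuotientGroup.induction_on x fun g =>
        congrArg (QuotientGroup.mk (s := A)) (D.τ2 g)
      map_mul' := map_mul _ }
  α3 x := QuotientGroup.induction_on x fun g => congrArg (QuotientGroup.mk (s := A)) (D.α3 g)
  τ2 x := QuotientGroup.induction_on x fun g => congrArg (QuotientGroup.mk (s := A)) (D.τ2 g)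
  rel x := QuotientGroup.induction_on x fun g => congrArg (QuotientGroup.mk (s := A)) (D.rel g)
  fpf x := QuotientGroup.induction_on x fun g h h' => by
    refine (QuotientGroup.eq_one_iff g).2 (D.lift_both ?_ ?_ hA hAi
      (QuotientGroup.eq.1 h.symm) (QuotientGroup.eq.1 h'.symm))
    · exact h2
    · exact h3

end Act

end Cfsg.Agent.S3Fpf
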