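import Cfsg.Agent.Lib.FiniteGroup.S3Fpf.Rep
import Cfsg.Agent.Lib.PLocal.FixedPointFree

/-!
Fixed-point-free actions of the symmetric group of degree three: the minimal configuration is
abelian.
-/

set_option autoImplicit false
set_option linter.style.haveILetI false

namespace Cfsg.Agent.S3Fpf

open scoped commutatorElement

universe u

/-- An identity for commutators in class two, under a norm condition of order three. -/
theorem commutator_norm_identity {Q : Type*} [Group Q] (β : Q →* Q)
    (hcl : ∀ a b : Q, ⁅a, b⁆ ∈ Subgroup.center Q) (hn : ∀ x, x * β x * β (β x) = 1) (x y : Q) :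
    ⁅β x * (β (β x))⁻¹, β y * (β (β y))⁻¹⁆ * ⁅x, y⁆ ^ 3 = 1 := by
  letI : CommGroup (Subgroup.center Q) :=
    { (inferInstance : Group (Subgroup.center Q)) with
      mul_comm := fun a b => Subtype.ext (Subgroup.mem_center_iff.1 b.2 a) }
  let F : Q → Q → Additive (Subgroup.center Q) := fun a b => Additive.ofMul ⟨⁅a, b⁆, hcl a b⟩
  have hl : ∀ a a' b, F (a * a') b = F a b + F a' b := by
    intro a a' b
    apply Additive.toMul.injective
    apply Subtype.ext
    change ⁅a * a', b⁆ = ⁅a, b⁆ * ⁅a', b⁆
    have h2 := Subgroup.mem_center_iff.1 (hcl a' b)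
    calc ⁅a * a', b⁆ = a * ⁅a', b⁆ * a⁻¹ * ⁅a, b⁆ := by simp only [commutatorElement_def]; group
      _ = ⁅a', b⁆ * ⁅a, b⁆ := by rw [h2 a, mul_inv_cancel_right]
      _ = ⁅a, b⁆ * ⁅a', b⁆ := (h2 _).symm
  have hanti : ∀ a b, F a b = -F b a := by
    intro a b
    apply Additive.toMul.injective
    apply Subtype.ext
    change ⁅a, b⁆ = (⁅b, a⁆)⁻¹
    rw [commutatorElement_inv]
  have hr : ∀ a b b', F a (b * b') = F a b + F a b' := by
    intro a b b'
    rw [hanti, hl, hanti a b, hanti a b', neg_add]
  have h1l : ∀ b, F 1 b = 0 := fun b => by simpa using hl 1 1 b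
  have h1r : ∀ a, F a 1 = 0 := fun a => by simpa using hr a 1 1
  have hil : ∀ a b, F a⁻¹ b = -F a b := fun a b =>
    eq_neg_of_add_eq_zero_left (by rw [← hl, inv_mul_cancel, h1l])
  have hir : ∀ a b, F a b⁻¹ = -F a b := fun a b =>
    eq_neg_of_add_eq_zero_left (by rw [← hr, inv_mul_cancel, h1r])
  have hnorm : ∀ a b, F a b + F (β a) (β b) + F (β (β a)) (β (β b)) = 0 := by
    intro a b
    apply Additive.toMul.injective
    apply Subtype.ext
    change ⁅a, b⁆ * ⁅β a, β b⁆ * ⁅β (β a), β (β b)⁆ = 1
    rw [← map_commutatorElement, ← map_commutatorElement, ← map_commutatorElement]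
    exact hn _
  have hb3 : ∀ a, β (β (β a)) = a := fun a => by
    have e1 := hn a
    have e2 := hn (β a)
    rw [mul_assoc] at e1
    have e3 := eq_inv_of_mul_eq_one_left e1
    have e4 := eq_inv_of_mul_eq_one_right e2
    rw [e4, ← e3]
  have hrow : F x y + F x (β y) + F x (β (β y)) = 0 := by rw [← hr, ← hr, hn, h1r]
  have hcol : F x y + F (β x) y + F (β (β x)) y = 0 := by rw [← hl, ← hl, hn, h1l]
  have n1 := hnorm x (β y)
  have n2 := hnorm (β x) y
  rw [hb3] at n1 n2
  have key : F (β x * (β (β x))⁻¹) (β y * (β (β y))⁻¹) + (3 : ℕ) • F x y = 0 := by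
    rw [hl, hr, hr, hil, hil, hir, hir, show (3 : ℕ) • F x y = F x y + F x y + F x y by
      rw [succ_nsmul, two_nsmul]]
    have n0 := hnorm x y
    linear_combination (norm := abel) n0 - n1 - n2 + hrow + hcol
  exact congrArg (fun u : Additive (Subgroup.center Q) => ((Additive.toMul u : Subgroup.center Q) : Q))
    key

namespace Rep

variable {H : Type u} [Group H] {W : Type*} [AddCommGroup W] {D : Act H} (R : Rep D W)

theorem mem_normalizer_of_mp {g : H} {B : Subgroup H} (h : mp (MulAut.conj g) B = B) :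
    g ∈ Subgroup.normalizer (B : Set H) := by
  rw [Subgroup.mem_normalizer_iff]
  intro x
  constructor
  · intro hx
    rw [← h]
    exact ⟨x, hx, rfl⟩
  · intro hx
    rw [← h] at hx
    obtain ⟨y, hy, e⟩ := hx
    rwa [← (MulAut.conj g).injective e]

theorem mp_conj_comm (σ : MulAut H) (g : H) (B : Subgroup H) :
    mp σ (mp (MulAut.conj g) B) = mp (MulAut.conj (σ g)) (mp σ B) := by
  simp only [mp, Subgroup.map_map]
  congr 1
  ext x
  simp

theorem mp_conj_mul (g g' : H) (B : Subgroup H) :
    mp (MulAut.conj g) (mp (MulAut.conj g') B) = mp (MulAut.conj (g * g')) B := by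
  simp only [mp, Subgroup.map_map, map_mul]
  rfl

theorem mp_conj_one (B : Subgroup H) : mp (MulAut.conj (1 : H)) B = B := by
  ext x
  simp

theorem fix_of_t_neg {g : H} {S : AddSubgroup W} (hS : ∀ v ∈ S, R.t v = -v)
    (hgS : ∀ v ∈ S, R.ρ g v ∈ S) {v : W} (hv : v ∈ S) : R.ρ (g⁻¹ * D.τ g) v = v := by
  have h1 := hS _ (hgS v hv)
  rw [R.hτ, hS v hv, map_neg, neg_inj] at h1
  rw [ρmul, h1, ρinv]

theorem fix_of_inverted {g : H} {S : AddSubgroup W} (hS : ∀ v ∈ S, R.t v = -v)
    (hgS : ∀ v ∈ S, R.ρ g v ∈ S) (hg : D.τ g = g⁻¹) {v : W} (hv : v ∈ S) : R.ρ g v = v := by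
  haveI := R.finH
  have h1 := R.fix_of_t_neg hS hgS hv
  rw [hg] at h1
  have h2 : (g ^ 2)⁻¹ ∈ R.stab v := by rw [mem_stab, pow_two, mul_inv_rev]; exact h1
  exact R.mem_stab.1 (mem_of_pow_mem R.H2 _ (inv_mem_iff.1 h2))

variable (hsub : ∀ K : Subgroup H, D.Inv K → K ≠ ⊤ → ∀ x ∈ K, ∀ y ∈ K, x * y = y * x)

/-- The subgroup generated by the commutators with `α`. -/
def commα (D : Act H) : Subgroup H := Subgroup.closure (Set.range fun h : H => h * (D.α h)⁻¹)

theorem mem_commα (D : Act H) (h : H) : h * (D.α h)⁻¹ ∈ commα D :=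
  Subgroup.subset_closure ⟨h, rfl⟩

theorem commα_normal (D : Act H) : (commα D).Normal := by
  refine ⟨fun n hn g => ?_⟩
  refine (Subgroup.closure_le
    (K := (commα D).comap (MulAut.conj g).toMonoidHom)).2 ?_ hn
  rintro _ ⟨h, rfl⟩
  change g * (h * (D.α h)⁻¹) * g⁻¹ ∈ commα D
  have e : g * (h * (D.α h)⁻¹) * g⁻¹ = g * h * (D.α (g * h))⁻¹ * (g * (D.α g)⁻¹)⁻¹ := by
    rw [map_mul]; group
  rw [e]
  exact mul_mem (mem_commα D _) (inv_mem (mem_commα D _))

theorem commα_inv (D : Act H) : D.Inv (commα D) := by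
  refine D.inv_closure ?_ ?_
  · rintro _ ⟨h, rfl⟩
    rw [map_mul, map_inv]
    exact mem_commα D _
  · rintro _ ⟨h, rfl⟩
    have e : D.τ (h * (D.α h)⁻¹) =
        D.τ h * (D.α (D.τ h))⁻¹ * (D.α (D.τ h) * (D.α (D.α (D.τ h)))⁻¹) := by
      rw [map_mul, map_inv, D.rel]; group
    rw [e]
    exact mul_mem (mem_commα D _) (mem_commα D _)

include R hsub in
/-- The case `[H, α] < H`. -/
theorem comm_of_ne_top (hne : commα D ≠ ⊤) (x y : H) : x * y = y * x := by
  haveI := R.finH
  set N := commα D with hN
  have hNn := commα_normal D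
  have hNi := commα_inv D
  have hNc := hsub N hNi hne
  have htriv : (∀ n ∈ N, D.α n = n) → ∀ h, D.α h = h := by
    intro ht h
    have h1 := ht _ (mem_commα D h)
    rw [map_mul, map_inv] at h1
    refine (mul_inv_eq_one.1 (eq_one_of_pow_eq_one R.H3 (g := h * (D.α h)⁻¹) ?_)).symm
    have h2 := ht _ (hNi.1 _ (mem_commα D h))
    rw [map_mul, map_inv, map_mul, map_inv, D.α3] at h2
    have h3 : D.α (D.α h) * h⁻¹ = h * (D.α h)⁻¹ := by rw [h2, h1]
    calc (h * (D.α h)⁻¹) ^ 3 = h * (D.α h)⁻¹ * (D.α h * (D.α (D.α h))⁻¹) *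
          (D.α (D.α h) * h⁻¹) := by rw [h1, h3, pow_succ, pow_succ, pow_one]
      _ = 1 := by group
  rcases R.dichotomy hNn hNi hNc with h | hfpf
  · exact (D.fixed_commute (htriv h x) (htriv h y)).eq
  rcases subsingleton_or_nontrivial N with hsub' | hnt
  · refine (D.fixed_commute (htriv (fun n hn => ?_) x) (htriv (fun n hn => ?_) y)).eq <;>
    · have : (⟨n, hn⟩ : N) = 1 := Subsingleton.elim _ _
      rw [show n = 1 from congrArg Subtype.val this, map_one]
  have hC : ∀ c, D.α c = c → c = 1 := by
    intro c hc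
    obtain ⟨B₁, hB₁⟩ := R.exists_max (N := N)
    refine R.kill (S := {B | R.IsMax N B}) ⟨B₁, hB₁, hB₁.2.1⟩
      (fun B hB h => R.isMax_conj hNn h hB) (fun B hB => R.isMax_α hNi hB)
      (fun B hB => R.isMax_τ hNi hB) fun B hB v hv => ?_
    have key : ∀ C, R.IsMax N C → mp D.τ C = C → (∀ w ∈ R.fix C, R.t w = -w) →
        ∀ w ∈ R.fix C, R.ρ c w = w := by
      intro C hC hτC hneg w hw
      have hcn : c ∈ Subgroup.normalizer (C : Set H) := by
        obtain ⟨i, hi3, C', hC', -, hτC', -⟩ :=
          R.exists_neg hNn hNi hNc hfpf (R.isMax_conj hNn c hC)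
        have hαc : ∀ X, mp D.α (mp (MulAut.conj c) X) = mp (MulAut.conj c) (mp D.α X) := fun X => by
          rw [mp_conj_comm, hc]
        have hτc : ∀ X, mp D.τ (mp (MulAut.conj c) X) = mp (MulAut.conj c⁻¹) (mp D.τ X) := fun X => by
          rw [mp_conj_comm, D.τ_eq_inv hc]
        have hττ : ∀ X, mp D.τ (mp D.α X) = mp D.α (mp D.α (mp D.τ X)) := fun X => by
          simp only [mp, Subgroup.map_map]; congr 1; ext z; exact D.rel z
        have hsq : ∀ X Y, mp (MulAut.conj c⁻¹) X = mp (MulAut.conj c) Y →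
            mp (MulAut.conj (c * c)) Y = X := fun X Y e => by
          rw [← mp_conj_mul, ← e, mp_conj_mul, mul_inv_cancel, mp_conj_one]
        have hαc2 : ∀ X, mp D.α (mp (MulAut.conj (c * c)) X) =
            mp (MulAut.conj (c * c)) (mp D.α X) := fun X => by
          rw [mp_conj_comm, map_mul, hc]
        obtain ⟨j, hj⟩ : ∃ j, mp (MulAut.conj (c * c)) C = (mp D.α)^[j] C := by
          subst hC'
          interval_cases i
          · simp only [Function.iterate_zero, id] at hτC'
            rw [hτc, hτC] at hτC'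
            exact ⟨0, hsq _ _ hτC'⟩
          · simp only [Function.iterate_one] at hτC'
            rw [hαc, hτc, hττ, hτC] at hτC'
            refine ⟨1, ?_⟩
            have e := congrArg (fun X => mp D.α (mp D.α X)) (hsq _ _ hτC')
            simp only [hαc2, mp_α3] at e
            simpa using e
          · simp only [Function.iterate_succ, Function.iterate_zero, Function.comp, id] at hτC'
            rw [hαc, hαc, hτc, hττ, hττ, hτC, mp_α3] at hτC'
            refine ⟨2, ?_⟩
            have e := congrArg (fun X => mp D.α X) (hsq _ _ hτC')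
            simp only [hαc2, mp_α3] at e
            simpa using e
        refine mem_of_pow_mem (R.H2.mul_right R.H3) _ (mem_normalizer_of_mp ?_)
        have hit : ∀ (j : ℕ) (X : Subgroup H), mp (MulAut.conj (c * c)) ((mp D.α)^[j] X)
            = (mp D.α)^[j] (mp (MulAut.conj (c * c)) X) := by
          intro j
          induction j with
          | zero => intro X; rfl
          | succ j ih => intro X; rw [Function.iterate_succ_apply, ih, Function.iterate_succ_apply,
              hαc2]
        have h3 : ∀ k : ℕ, (mp D.α)^[3 * k] C = C := by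
          intro k
          induction k with
          | zero => rfl
          | succ k ih =>
            rw [Nat.mul_succ, Function.iterate_add_apply]
            simp only [Function.iterate_succ, Function.iterate_zero, Function.comp, id, mp_α3]
            exact ih
        rw [show c ^ (2 * 3) = c * c * (c * c * (c * c)) by simp [pow_succ, mul_assoc],
          ← mp_conj_mul (c * c) (c * c * (c * c)), ← mp_conj_mul (c * c) (c * c), hj,
          hit, hj, ← Function.iterate_add_apply, hit, hj, ← Function.iterate_add_apply,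
          show j + j + j = 3 * j by ring]
        exact h3 j
      refine R.fix_of_inverted hneg (fun u hu => ?_) (D.τ_eq_inv hc) hw
      intro g hg
      rw [mem_stab, ← ρmul]
      have hg' : c⁻¹ * g * c ∈ C := (Subgroup.mem_normalizer_iff''.1 hcn g).1 hg
      rw [show g * c = c * (c⁻¹ * g * c) by group, ρmul, R.mem_fix.1 hu _ hg']
    have hca : ∀ w, R.ρ c (R.a w) = R.a w → R.ρ c w = w := fun w h => by
      rw [← hc, ← R.hα] at h
      simpa [R.a3] using congrArg (R.a ∘ R.a) h
    obtain ⟨i, hi3, C, rfl, hC, hτC, hneg⟩ := R.exists_neg hNn hNi hNc hfpf hB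
    have := key _ hC hτC hneg
    interval_cases i
    · exact this v hv
    · exact hca v (this _ (R.fix_mp R.hα hv))
    · exact hca v (hca _ (this _ (R.fix_mp R.hα (R.fix_mp R.hα hv))))
  refine absurd (eq_top_iff.2 fun h _ => ?_) hne
  obtain ⟨n, hn, hfix⟩ := D.lift_α R.H2 R.H3 hNc hNi.1 (g := h) (by
    simpa using mem_commα D h⁻¹)
  rw [eq_inv_of_mul_eq_one_left (hC _ hfix)]
  exact inv_mem hn

include R in
/-- The case of a central derived group fixed by `α`. -/
theorem false_of_central (htop : commα D = ⊤) (hne : commutator H ≠ ⊤) (hbot : commutator H ≠ ⊥)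
    (hfix : ∀ n ∈ commutator H, D.α n = n) (hC : ∀ c, D.α c = c → c ∈ commutator H) : False := by
  haveI := R.finH
  set N := commutator H with hN
  have hcen : N ≤ Subgroup.center H := by
    intro n hn
    rw [← Subgroup.centralizer_univ, ← Subgroup.coe_top, ← htop, commα,
      Subgroup.centralizer_closure, Subgroup.mem_centralizer_iff]
    rintro _ ⟨h, rfl⟩
    have hm : h⁻¹ * n * h ∈ N := by simpa using (inferInstance : N.Normal).conj_mem n hn h⁻¹
    have h1 := hfix _ hm
    rw [map_mul, map_mul, map_inv, hfix n hn] at h1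
    calc h * (D.α h)⁻¹ * n = h * ((D.α h)⁻¹ * n * D.α h) * (D.α h)⁻¹ := by group
      _ = h * (h⁻¹ * n * h) * (D.α h)⁻¹ := by rw [h1]
      _ = n * (h * (D.α h)⁻¹) := by group
  haveI hnil : Group.IsNilpotent H := by
    haveI : Group.IsNilpotent (Abelianization H) := CommGroup.isNilpotent
    exact Subgroup.isNilpotent_of_ker_le_center Abelianization.of (by
      rw [Abelianization.ker_of]; exact hcen)
  have hcopH : (Nat.card H).Coprime (Nat.card W) := by
    haveI : Group.IsNilpotent (⊤ : Subgroup H) := inferInstance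
    simpa using R.cop ⊤ inferInstance D.inv_top inferInstance
  have hfree : ∀ z ∈ N, z ≠ 1 → ∀ v, R.ρ z v = v → v = 0 := by
    intro z hz hz1 v hv
    let U : AddSubgroup W :=
      { carrier := {v | R.ρ z v = v}
        zero_mem' := map_zero _
        add_mem' := fun {u w} hu hw => by
          simp only [Set.mem_ofPred_eq] at hu hw ⊢; rw [map_add, hu, hw]
        neg_mem' := fun {u} hu => by simp only [Set.mem_ofPred_eq] at hu ⊢; rw [map_neg, hu] }
    rcases R.irred U
      (fun h u (hu : R.ρ z u = u) => show R.ρ z (R.ρ h u) = R.ρ h u by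
        rw [← ρmul, ← Subgroup.mem_center_iff.1 (hcen hz) h, ρmul, hu])
      (fun u (hu : R.ρ z u = u) => show R.ρ z (R.a u) = R.a u by
        conv_rhs => rw [← hu, R.hα, hfix z hz])
      (fun u (hu : R.ρ z u = u) => show R.ρ z (R.t u) = R.t u by
        have : R.t (R.ρ z u) = R.t u := by rw [hu]
        rw [R.hτ, D.τ_eq_inv (hfix z hz)] at this
        conv_lhs => rw [← this]
        rw [← ρmul, mul_inv_cancel, ρone]) with hU | hU
    · have : v ∈ U := hv
      rwa [hU, AddSubgroup.mem_bot] at this
    · exact absurd (R.faithful z fun w => (hU ▸ AddSubgroup.mem_top w : w ∈ U)) hz1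
  obtain ⟨⟨z₀, hz₀⟩, hz₀'⟩ := Subgroup.ne_bot_iff_exists_ne_one.1 hbot
  have hz₀1 : z₀ ≠ 1 := fun h => hz₀' (Subtype.ext h)
  have ha : ∀ v, R.a (R.a v) = -v - R.a v := by
    intro v
    have hs : R.a (v + R.a v + R.a (R.a v)) = v + R.a v + R.a (R.a v) := by
      rw [map_add, map_add, R.a3]; abel
    have h0 := hfree z₀ hz₀ hz₀1 _ (R.fixed_fix (hfix _ hz₀) hs)
    rw [eq_neg_of_add_eq_zero_right h0]; abel
  refine hne (eq_top_iff.2 ?_)
  rw [← htop, commα, Subgroup.closure_le]
  rintro _ ⟨h, rfl⟩
  set x := h * (D.α h)⁻¹ with hx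
  set y := D.α x with hy
  let b : W → W := fun v => R.ρ h (R.a (R.ρ h⁻¹ v))
  have hb : ∀ v, b (b v) = -v - b v := by
    intro v
    simp only [b, ← ρmul, inv_mul_cancel, ρone, ha, map_sub, map_neg, mul_inv_cancel]
  have hXb : ∀ v, R.ρ x v = b (R.a (R.a v)) := fun v => by
    simp only [b, R.hα, R.a3, ← ρmul, hx, map_inv]
  have hX'b : ∀ v, R.ρ x⁻¹ v = R.a (b (b v)) := fun v => by
    apply R.ρinj x
    rw [← ρmul, mul_inv_cancel, ρone, hXb, R.a3]
    have hb3 : b (b (b v)) = v := by
      simp only [b, ← ρmul, inv_mul_cancel, ρone, R.a3, mul_inv_cancel]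
    exact hb3.symm
  have hadd : ∀ u w, b (u + w) = b u + b w := fun u w => by simp only [b, map_add]
  have hneg : ∀ u, b (-u) = -b u := fun u => by simp only [b, map_neg]
  have hsub' : ∀ u w, b (u - w) = b u - b w := fun u w => by simp only [b, map_sub]
  have hquad : ∀ v, R.ρ y v + R.ρ y⁻¹ v = R.ρ x v + R.ρ x⁻¹ v := by
    intro v
    obtain ⟨w, rfl⟩ : ∃ w, R.a w = v := ⟨R.a (R.a v), R.a3 v⟩
    rw [hy, ← map_inv, ← R.hα, ← R.hα, ← map_add, hXb, hXb, hX'b, hX'b]
    simp only [ha, hb, hadd, hneg, hsub', map_add, map_sub, map_neg]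
    abel
  set z := ⁅y, x⁆ with hz
  have hzN : z ∈ N := by
    rw [hN, commutator_def]
    exact Subgroup.commutator_mem_commutator trivial trivial
  have hzc : ∀ g, g * z = z * g := Subgroup.mem_center_iff.1 (hcen hzN)
  by_cases hz1 : z = 1
  · have hc1 : Commute y x := commutatorElement_eq_one_iff_commute.1 hz1
    have hc2 : Commute (D.α y) y := hc1.map D.α
    have hc3 : Commute x (D.α y) := by
      have := hc2.map D.α
      rwa [hy, D.α3] at this
    set E := Subgroup.closure ({x, y, D.α y} : Set H) with hE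
    have hEc : ∀ u ∈ E, ∀ v ∈ E, u * v = v * u := by
      have h1 : E ≤ Subgroup.centralizer ({x, y, D.α y} : Set H) := by
        rw [hE, Subgroup.closure_le]
        intro u hu
        rw [SetLike.mem_coe, Subgroup.mem_centralizer_iff]
        intro v hv
        rcases hu with rfl | rfl | rfl <;> rcases hv with rfl | rfl | rfl
        · rfl
        · exact hc1.eq
        · exact hc3.symm.eq
        · exact hc1.symm.eq
        · rfl
        · exact hc2.eq
        · exact hc3.eq
        · exact hc2.symm.eq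
        · rfl
      intro u hu v hv
      have h2 : E ≤ Subgroup.centralizer (E : Set H) := by
        conv_rhs => rw [hE, Subgroup.centralizer_closure]
        exact h1
      exact (Subgroup.mem_centralizer_iff.1 (h2 hv) u hu)
    have hEα : ∀ u ∈ E, D.α u ∈ E := fun u hu =>
      (Subgroup.closure_le (K := E.comap D.α.toMonoidHom)).2 (by
        rintro _ (rfl | rfl | rfl)
        · exact Subgroup.subset_closure (Or.inr (Or.inl hy.symm))
        · exact Subgroup.subset_closure (Or.inr (Or.inr rfl))
        · refine Subgroup.subset_closure (Or.inl ?_)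
          change D.α (D.α y) = x
          rw [hy, D.α3]) hu
    have hxf : D.α x = x := by
      have h1 := R.faithful _ fun v => R.commutator_fix hEc hEα
        (hcopH.coprime_dvd_left (Subgroup.card_subgroup_dvd_card E)) (U := ⊤)
        (fun _ _ => trivial) (fun _ _ _ _ => trivial)
        (fun v _ hv => hfree z₀ hz₀ hz₀1 v (R.fixed_fix (hfix _ hz₀) hv))
        (x := x) (Subgroup.subset_closure (Or.inl rfl)) (v := v) trivial
      exact (mul_inv_eq_one.1 h1).symm
    exact hC x hxf
  · have hkey : y⁻¹ * z * y⁻¹ = 1 → False ∨ x ∈ N := by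
      intro e
      refine Or.inr (hC x ?_)
      have hyz : y ^ 2 = z := by
        rw [pow_two]
        have e' := mul_inv_eq_one.1 e
        calc y * y = y * (y⁻¹ * z) := by rw [e']
          _ = z := mul_inv_cancel_left _ _
      have hyN : y ∈ N := mem_of_pow_mem R.H2 _ (hyz ▸ hzN)
      exact D.α.injective (hfix _ hyN)
    refine (hkey (R.faithful _ fun v => ?_)).resolve_left id
    have hconj1 : x * y * x⁻¹ = z⁻¹ * y := by rw [hz, commutatorElement_def]; group
    have hconj2 : x * y⁻¹ * x⁻¹ = y⁻¹ * z := by rw [hz, commutatorElement_def]; group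
    have hid : ∀ u, R.ρ (z⁻¹ * y) u + R.ρ (y⁻¹ * z) u = R.ρ y u + R.ρ y⁻¹ u := by
      intro u
      have := congrArg (R.ρ x) (hquad (R.ρ x⁻¹ u))
      simp only [map_add, ← ρmul, mul_inv_cancel, mul_one, mul_inv_cancel_left] at this
      rw [← hconj1, ← hconj2, hquad u, mul_assoc x y x⁻¹, mul_assoc x y⁻¹ x⁻¹]
      exact this
    have hd : ∀ u, R.ρ (z⁻¹ * y) u = R.ρ y⁻¹ u := by
      intro u
      rw [← sub_eq_zero]
      refine hfree z hzN hz1 _ ?_
      rw [map_sub, ← ρmul, ← ρmul, mul_inv_cancel_left, ← hzc y⁻¹, sub_eq_sub_iff_add_eq_add]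
      exact (hid u).symm
    have h1 : R.ρ (y * (z⁻¹ * y)) v = v := by
      rw [ρmul, hd, ← ρmul, mul_inv_cancel, ρone]
    have h2 : y⁻¹ * z * y⁻¹ = (y * (z⁻¹ * y))⁻¹ := by group
    rw [h2]
    conv_lhs => rw [← h1]
    exact R.ρinv _ v

include R in
/-- The case of a fixed-point-free `α`. -/
theorem comm_of_fpf (hfpf : ∀ c, D.α c = c → c = 1) (x y : H) : x * y = y * x := by
  haveI := R.finH
  rcases subsingleton_or_nontrivial H with hs | hs
  · exact Subsingleton.elim _ _
  haveI hnil : Group.IsNilpotent H := Cfsg.Agent.FixedPointFreeThompson.isNilpotent D.α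
    Nat.prime_three (MulEquiv.ext fun x => D.α3 x) hfpf
  set N := Subgroup.center H with hN
  haveI : Nontrivial N := Cfsg.Agent.FixedPointFreeThompson.center_nontrivial_of_nilpotent
  have hNi : D.Inv N := D.inv_of_characteristic inferInstance
  have hNn : N.Normal := inferInstance
  have hNc : ∀ u ∈ N, ∀ v ∈ N, u * v = v * u := fun u hu v _ =>
    (Subgroup.mem_center_iff.1 hu v).symm
  have hNf : ∀ n ∈ N, D.α n = n → n = 1 := fun n _ => hfpf n
  have hnorm : ∀ g, g * D.α g * D.α (D.α g) = 1 := by
    intro g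
    obtain ⟨u, hu⟩ := Cfsg.Agent.FixedPointFreeThompson.exists_eq_commutatorMap hfpf g⁻¹
    rw [← inv_inv g, ← hu]
    simp only [map_mul, map_inv, D.α3]
    group
  obtain ⟨B₁, hB₁⟩ := R.exists_max (N := N)
  suffices h : ∀ g ∈ commutator H, g = 1 by
    exact (commutatorElement_eq_one_iff_mul_comm.1 (h _ (by
      rw [commutator_def]; exact Subgroup.commutator_mem_commutator trivial trivial)))
  intro g hg
  refine R.kill (S := {B | R.IsMax N B}) ⟨B₁, hB₁, hB₁.2.1⟩
    (fun B hB h => R.isMax_conj hNn h hB) (fun B hB => R.isMax_α hNi hB)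
    (fun B hB => R.isMax_τ hNi hB) fun B hB v hv => ?_
  have key : ∀ C, R.IsMax N C → (∀ w ∈ R.fix C, R.t w = -w) →
      ∀ k ∈ commutator H, ∀ w ∈ R.fix C, R.ρ k w = w := by
    intro C hC hneg
    have hinv : ∀ (u : H), ∀ w ∈ R.fix C, R.ρ u w ∈ R.fix C := fun u w hw n hn => by
      rw [mem_stab, ← ρmul, ← Subgroup.mem_center_iff.1 (hC.1 hn) u, ρmul, R.mem_fix.1 hw n hn]
    let K : Subgroup H :=
      { carrier := {u | ∀ w ∈ R.fix C, R.ρ u w = w}
        one_mem' := fun w _ => R.ρone w
        mul_mem' := fun {u u'} hu hu' w hw => by rw [ρmul, hu' w hw, hu w hw]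
        inv_mem' := fun {u} hu w hw => by
          conv_lhs => arg 2; rw [← hu w hw]
          exact R.ρinv u w }
    haveI hKn : K.Normal := ⟨fun u hu k w hw => by
      rw [ρmul, ρmul, hu _ (hinv _ w hw), ← ρmul, mul_inv_cancel, ρone]⟩
    have hK1 : ∀ u, u⁻¹ * D.τ u ∈ K := fun u w hw => R.fix_of_t_neg hneg (hinv u) hw
    have hK2 : ∀ u, D.τ u = u⁻¹ → u ∈ K := fun u hu w hw =>
      R.fix_of_inverted hneg (hinv u) hu hw
    set L := ⁅commutator H, (⊤ : Subgroup H)⁆ with hL
    have hLα : L ≤ L.comap D.α.toMonoidHom := by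
      rw [← Subgroup.map_le_iff_le_comap, hL, Subgroup.map_commutator]
      exact Subgroup.commutator_mono (Subgroup.map_le_iff_le_comap.2 fun u hu =>
        (D.inv_of_characteristic inferInstance).1 u hu) le_top
    let β := QuotientGroup.map L L D.α.toMonoidHom hLα
    have hcl : ∀ a b : H ⧸ L, ⁅a, b⁆ ∈ Subgroup.center (H ⧸ L) := by
      intro a b
      obtain ⟨a, rfl⟩ := QuotientGroup.mk_surjective a
      obtain ⟨b, rfl⟩ := QuotientGroup.mk_surjective b
      rw [Subgroup.mem_center_iff]
      intro q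
      obtain ⟨q, rfl⟩ := QuotientGroup.mk_surjective q
      rw [eq_comm, ← commutatorElement_eq_one_iff_mul_comm]
      exact (QuotientGroup.eq_one_iff _).2 (Subgroup.commutator_mem_commutator
        (by rw [commutator_def]; exact Subgroup.commutator_mem_commutator trivial trivial) trivial)
    have hβ : ∀ a : H ⧸ L, a * β a * β (β a) = 1 := by
      intro a
      obtain ⟨a, rfl⟩ := QuotientGroup.mk_surjective a
      exact congrArg (QuotientGroup.mk (s := L)) (hnorm a)
    have hcomm : ∀ u w, D.τ u = u → D.τ w = w → ⁅u, w⁆ ∈ K ⊔ L := by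
      intro u w hu hw
      have h' : ∀ u, D.τ u = u → D.α u * (D.α (D.α u))⁻¹ ∈ K := fun u hu => by
        refine hK2 _ ?_
        rw [map_mul, map_inv, D.rel2, D.rel, hu, mul_inv_rev, inv_inv]
      refine mem_of_pow_mem R.H3 _ ?_
      have hmemK : ⁅D.α u * (D.α (D.α u))⁻¹, D.α w * (D.α (D.α w))⁻¹⁆ ∈ K :=
        Subgroup.commutator_le_left K ⊤ (Subgroup.commutator_mem_commutator (h' u hu) trivial)
      have hmemL : ⁅D.α u * (D.α (D.α u))⁻¹, D.α w * (D.α (D.α w))⁻¹⁆ * ⁅u, w⁆ ^ 3 ∈ L :=
        (QuotientGroup.eq_one_iff _).1 (commutator_norm_identity β hcl hβ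
          (QuotientGroup.mk (s := L) u) (QuotientGroup.mk (s := L) w))
      have := mul_mem (Subgroup.mem_sup_left (T := L) (inv_mem hmemK))
        (Subgroup.mem_sup_right (S := K) hmemL)
      rwa [inv_mul_cancel_left] at this
    have hfix : ∀ u, ∃ u', D.τ u' = u' ∧ u⁻¹ * u' ∈ K := by
      intro u
      set m := u⁻¹ * D.τ u with hm
      obtain ⟨i, hi⟩ := exists_pow_root R.H2 m
      refine ⟨u * m ^ i, ?_, ?_⟩
      · have hmτ : D.τ m = m⁻¹ := by rw [hm, map_mul, map_inv, D.τ2]; group
        have hu' : D.τ u = u * m := by rw [hm]; group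
        rw [map_mul, map_pow, hmτ, hu', inv_pow]
        conv_lhs => arg 1; arg 2; rw [← hi]
        rw [pow_two]; group
      · rw [inv_mul_cancel_left]
        exact K.pow_mem (hK1 u) i
    have hall : commutator H ≤ K ⊔ L := by
      rw [commutator_def, Subgroup.commutator_le]
      intro u _ w _
      obtain ⟨u', hu', huK⟩ := hfix u
      obtain ⟨w', hw', hwK⟩ := hfix w
      rw [← QuotientGroup.eq_one_iff, ← QuotientGroup.mk'_apply, map_commutatorElement]
      have eu : QuotientGroup.mk' (K ⊔ L) u = QuotientGroup.mk' (K ⊔ L) u' :=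
        QuotientGroup.eq.2 (Subgroup.mem_sup_left huK)
      have ew : QuotientGroup.mk' (K ⊔ L) w = QuotientGroup.mk' (K ⊔ L) w' :=
        QuotientGroup.eq.2 (Subgroup.mem_sup_left hwK)
      rw [eu, ew, ← map_commutatorElement]
      exact (QuotientGroup.eq_one_iff _).2 (hcomm u' w' hu' hw')
    -- in the nilpotent quotient by `K` the derived group is trivial
    set π := QuotientGroup.mk' K with hπ
    have hπs : Function.Surjective π := QuotientGroup.mk'_surjective K
    have hle : commutator (H ⧸ K) ≤ ⁅commutator (H ⧸ K), (⊤ : Subgroup (H ⧸ K))⁆ := by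
      have e : (commutator H).map π = commutator (H ⧸ K) := by
        rw [commutator_def, commutator_def, Subgroup.map_commutator,
          Subgroup.map_top_of_surjective π hπs]
      have h1 := Subgroup.map_mono (f := π) hall
      rw [Subgroup.map_sup, hL, Subgroup.map_commutator, e, Subgroup.map_top_of_surjective π hπs,
        hπ, QuotientGroup.map_mk'_self, bot_sup_eq] at h1
      exact h1
    have hbot : commutator (H ⧸ K) = ⊥ := by
      haveI : Group.IsNilpotent (H ⧸ K) := inferInstance
      obtain ⟨n, hn⟩ := Subgroup.nilpotent_iff_lowerCentralSeries.1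
        (show Group.IsNilpotent (H ⧸ K) from inferInstance)
      have : ∀ n, commutator (H ⧸ K) ≤ (⊤ : Subgroup (H ⧸ K)).lowerCentralSeries n := by
        intro n
        induction n with
        | zero => simp
        | succ n ih => exact hle.trans (Subgroup.commutator_mono ih le_rfl)
      exact le_bot_iff.1 ((this n).trans hn.le)
    intro k hk w hw
    have : π k ∈ (commutator H).map π := Subgroup.mem_map_of_mem π hk
    rw [commutator_def, Subgroup.map_commutator, Subgroup.map_top_of_surjective π hπs,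
      ← commutator_def, hbot, Subgroup.mem_bot] at this
    exact (QuotientGroup.eq_one_iff k).1 this w hw
  obtain ⟨i, hi3, C, rfl, hC, -, hneg⟩ := R.exists_neg hNn hNi hNc hNf hB
  have hk := key _ hC hneg
  have hα : ∀ u ∈ commutator H, D.α u ∈ commutator H :=
    (D.inv_of_characteristic inferInstance).1
  interval_cases i
  · exact hk g hg v hv
  · have h1 := hk _ (hα g hg) _ (R.fix_mp R.hα hv)
    rw [← R.hα] at h1
    simpa [R.a3] using congrArg (R.a ∘ R.a) h1
  · have h1 := hk _ (hα _ (hα g hg)) _ (R.fix_mp R.hα (R.fix_mp R.hα hv))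
    rw [← R.hα, ← R.hα] at h1
    simpa [R.a3] using congrArg R.a h1

include R hsub in
/-- In the minimal configuration the group is abelian. -/
theorem comm [Group.IsSolvable H] (x y : H) : x * y = y * x := by
  haveI := R.finH
  by_cases htop : commα D = ⊤
  swap
  · exact R.comm_of_ne_top hsub htop x y
  rcases subsingleton_or_nontrivial H with hs | hs
  · exact Subsingleton.elim _ _
  by_cases hbot : commutator H = ⊥
  · refine commutatorElement_eq_one_iff_mul_comm.1 ?_
    rw [← Subgroup.mem_bot, ← hbot, commutator_def]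
    exact Subgroup.commutator_mem_commutator trivial trivial
  have hne : commutator H ≠ ⊤ := (Group.IsSolvable.commutator_lt_top_of_nontrivial H).ne
  have hNi : D.Inv (commutator H) := D.inv_of_characteristic inferInstance
  have hC : ∀ c, D.α c = c → c ∈ commutator H := by
    intro c hc
    let φ : Abelianization H →* Abelianization H :=
      (MonoidHom.id (Abelianization H)) / Abelianization.map D.α.toMonoidHom
    have hsurj : Function.Surjective φ := by
      rw [← MonoidHom.range_eq_top]
      rw [eq_top_iff]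
      intro a _
      obtain ⟨u, rfl⟩ := QuotientGroup.mk_surjective a
      have hu : u ∈ commα D := htop ▸ Subgroup.mem_top u
      refine (Subgroup.closure_le (K := φ.range.comap Abelianization.of)).2 ?_ hu
      rintro _ ⟨h, rfl⟩
      refine ⟨Abelianization.of h, ?_⟩
      simp [φ, div_eq_mul_inv, Abelianization.map_of]
    haveI : Finite (Abelianization H) := Finite.of_surjective _ QuotientGroup.mk_surjective
    have hinj := Finite.injective_iff_surjective.2 hsurj
    have h1 : φ (Abelianization.of c) = φ 1 := by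
      simp [φ, Abelianization.map_of, hc]
    rw [← Abelianization.ker_of, MonoidHom.mem_ker]
    exact hinj h1
  rcases R.dichotomy (N := commutator H) inferInstance hNi (hsub _ hNi hne) with h | h
  · exact (R.false_of_central htop hne hbot h hC).elim
  · exact R.comm_of_fpf (fun c hc => h c (hC c hc) hc) x y

end Rep

end Cfsg.Agent.S3Fpf
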