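import Cfsg.Agent.Lib.FiniteGroup.S3Fpf.Core
import Cfsg.Agent.Lib.Solvable.Fitting
import Mathlib.Algebra.Group.TypeTags.Finite

/-!
A fixed-point-free action of the symmetric group of degree three on a solvable group of order prime
to six forces a nilpotent derived group.
-/

set_option autoImplicit false
set_option linter.style.haveILetI false

namespace Cfsg.Agent.S3Fpf

open scoped commutatorElement
open Rep (mp)

universe u

variable {G : Type u} [Group G]

namespace Act

variable (D : Act G)

theorem inv_sup {K L : Subgroup G} (hK : D.Inv K) (hL : D.Inv L) : D.Inv (K ⊔ L) :=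
  ⟨fun _ hx => (sup_le (a := K) (b := L) (c := (K ⊔ L).comap D.α.toMonoidHom)
      (fun y hy => Subgroup.mem_sup_left (hK.1 y hy))
      (fun y hy => Subgroup.mem_sup_right (hL.1 y hy))) hx,
    fun _ hx => (sup_le (a := K) (b := L) (c := (K ⊔ L).comap D.τ.toMonoidHom)
      (fun y hy => Subgroup.mem_sup_left (hK.2 y hy))
      (fun y hy => Subgroup.mem_sup_right (hL.2 y hy))) hx⟩

theorem inv_commutator {K L : Subgroup G} (hK : D.Inv K) (hL : D.Inv L) : D.Inv ⁅K, L⁆ := by
  constructor
  · have h : ⁅K, L⁆ ≤ ⁅K, L⁆.comap D.α.toMonoidHom := by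
      rw [Subgroup.commutator_le]
      intro k hk l hl
      rw [Subgroup.mem_comap, map_commutatorElement]
      exact Subgroup.commutator_mem_commutator (hK.1 k hk) (hL.1 l hl)
    exact fun x hx => h hx
  · have h : ⁅K, L⁆ ≤ ⁅K, L⁆.comap D.τ.toMonoidHom := by
      rw [Subgroup.commutator_le]
      intro k hk l hl
      rw [Subgroup.mem_comap, map_commutatorElement]
      exact Subgroup.commutator_mem_commutator (hK.2 k hk) (hL.2 l hl)
    exact fun x hx => h hx

theorem exists_minimal [Finite G] {N : Subgroup G} (hN : N.Normal) (hNi : D.Inv N) (hne : N ≠ ⊥) :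
    ∃ V, V ≤ N ∧ V.Normal ∧ D.Inv V ∧ V ≠ ⊥ ∧
      ∀ M : Subgroup G, M.Normal → D.Inv M → M ≤ V → M = ⊥ ∨ M = V := by
  obtain ⟨V, ⟨h1, h2, h3, h4⟩, hmin⟩ := Set.Finite.exists_minimal
    (s := {V : Subgroup G | V ≤ N ∧ V.Normal ∧ D.Inv V ∧ V ≠ ⊥}) (Set.toFinite _)
    ⟨N, le_rfl, hN, hNi, hne⟩
  refine ⟨V, h1, h2, h3, h4, fun M hMn hMi hMV => ?_⟩
  by_cases hM : M = ⊥
  · exact Or.inl hM
  · exact Or.inr (le_antisymm hMV (hmin ⟨hMV.trans h1, hMn, hMi, hM⟩ hMV))

theorem comm_of_minimal [Group.IsSolvable G] {V : Subgroup G} (hn : V.Normal) (hi : D.Inv V)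
    (hne : V ≠ ⊥) (hmin : ∀ M : Subgroup G, M.Normal → D.Inv M → M ≤ V → M = ⊥ ∨ M = V) :
    ∀ a ∈ V, ∀ b ∈ V, a * b = b * a := by
  rcases hmin ⁅V, V⁆ inferInstance (D.inv_commutator hi hi) (Subgroup.commutator_le_left V V) with
    h | h
  · intro a ha b hb
    rw [← commutatorElement_eq_one_iff_mul_comm, ← Subgroup.mem_bot, ← h]
    exact Subgroup.commutator_mem_commutator ha hb
  · exfalso
    haveI : Nontrivial V := (Subgroup.nontrivial_iff_ne_bot V).2 hne
    refine (Group.IsSolvable.commutator_lt_top_of_nontrivial V).ne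
      (Subgroup.map_injective V.subtype_injective ?_)
    rw [commutator_def, Subgroup.map_commutator, ← MonoidHom.range_eq_map, Subgroup.range_subtype, h]

end Act

theorem isNilpotent_of_injective {K M : Type*} [Group K] [Group M] [Group.IsNilpotent M] (f : K →* M)
    (hf : Function.Injective f) : Group.IsNilpotent K :=
  Group.nilpotent_of_mulEquiv (MonoidHom.ofInjective hf).symm

/-- The map induced on derived subgroups. -/
def commMap {K M : Type*} [Group K] [Group M] (f : K →* M) : commutator K →* commutator M :=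
  (f.comp (commutator K).subtype).codRestrict _ fun x => by
    have h : (commutator K).map f ≤ commutator M := by
      rw [commutator_def, Subgroup.map_commutator]
      exact Subgroup.commutator_mono le_top le_top
    exact h ⟨x, x.2, rfl⟩

theorem isNilpotent_commutator_of_le {S : Subgroup G} (hS : Group.IsNilpotent S)
    (h : commutator G ≤ S) : Group.IsNilpotent (commutator G) :=
  isNilpotent_of_injective (Subgroup.inclusion h) (Subgroup.inclusion_injective h)

variable [Finite G]

/-- The main theorem by strong induction on the order. -/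
theorem isNilpotent_commutator : ∀ (n : ℕ) (G : Type u) [Group G] [Finite G] [Group.IsSolvable G]
    (_D : Act G), Nat.card G = n → (Nat.card G).Coprime 2 → (Nat.card G).Coprime 3 →
    Group.IsNilpotent (commutator G) := by
  intro n
  induction n using Nat.strong_induction_on with
  | _ n ih =>
    intro G _ _ _ D hn h2 h3
    classical
    rcases subsingleton_or_nontrivial G with hs | hs
    · infer_instance
    by_contra hnot
    -- induction on stable subgroups
    have hIHsub : ∀ L : Subgroup G, D.Inv L → L ≠ ⊤ → Group.IsNilpotent (commutator L) := by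
      intro L hL hne
      refine ih _ ?_ L (D.restrict L hL) rfl (h2.coprime_dvd_left (Subgroup.card_subgroup_dvd_card L))
        (h3.coprime_dvd_left (Subgroup.card_subgroup_dvd_card L))
      rw [← hn]
      exact lt_of_le_of_ne (Subgroup.card_le_card_group L)
        fun h => hne (Subgroup.eq_top_of_card_eq L h)
    -- induction on quotients
    have hIHquot : ∀ (A : Subgroup G) [A.Normal], (∀ a ∈ A, ∀ b ∈ A, a * b = b * a) → D.Inv A →
        A ≠ ⊥ → Group.IsNilpotent (commutator (G ⧸ A)) := by
      intro A _ hAc hAi hA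
      have hd : Nat.card (G ⧸ A) ∣ Nat.card G := Subgroup.card_quotient_dvd_card A
      haveI : Group.IsSolvable (G ⧸ A) :=
        Group.isSolvable_of_surjective (f := QuotientGroup.mk' A) (QuotientGroup.mk'_surjective A)
      refine ih _ ?_ (G ⧸ A) (D.quotient h2 h3 A hAc hAi) rfl (h2.coprime_dvd_left hd)
        (h3.coprime_dvd_left hd)
      rw [← hn, Subgroup.card_eq_card_quotient_mul_card_subgroup A]
      exact lt_mul_of_one_lt_right Nat.card_pos (A.one_lt_card_iff_ne_bot.mpr hA)
    obtain ⟨V, -, hVn, hVi, hVne, hVmin⟩ := D.exists_minimal (N := ⊤) inferInstance D.inv_top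
      top_ne_bot
    haveI := hVn
    have hVc := D.comm_of_minimal hVn hVi hVne hVmin
    haveI hVnil := hIHquot V hVc hVi hVne
    -- uniqueness
    have huniq : ∀ N : Subgroup G, N.Normal → D.Inv N → N ≠ ⊥ → V ≤ N := by
      intro N hN hNi hNne
      rcases hVmin (N ⊓ V) inferInstance (D.inv_inf hNi hVi) inf_le_right with h | h
      swap
      · exact h ▸ inf_le_left
      exfalso
      obtain ⟨V₂, hV₂N, hV₂n, hV₂i, hV₂ne, hV₂min⟩ := D.exists_minimal hN hNi hNne
      haveI := hV₂n
      haveI := hIHquot V₂ (D.comm_of_minimal hV₂n hV₂i hV₂ne hV₂min) hV₂i hV₂ne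
      refine hnot (isNilpotent_of_injective
        ((commMap (QuotientGroup.mk' V)).prod (commMap (QuotientGroup.mk' V₂))) ?_)
      rw [injective_iff_map_eq_one]
      intro x hx
      have e1 : QuotientGroup.mk' V (x : G) = 1 := congrArg Subtype.val (congrArg Prod.fst hx)
      have e2 : QuotientGroup.mk' V₂ (x : G) = 1 := congrArg Subtype.val (congrArg Prod.snd hx)
      rw [QuotientGroup.mk'_apply, QuotientGroup.eq_one_iff] at e1 e2
      have : (x : G) ∈ N ⊓ V := ⟨hV₂N e2, e1⟩
      rw [h, Subgroup.mem_bot] at this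
      exact Subtype.ext this
    -- `V` is a `p`-group
    obtain ⟨p, hp, hpd⟩ := Nat.exists_prime_and_dvd (V.one_lt_card_iff_ne_bot.2 hVne).ne'
    haveI := Fact.mk hp
    have hVp : IsPGroup p V := by
      let P : Subgroup G :=
        { carrier := {v | v ∈ V ∧ ∃ k : ℕ, v ^ p ^ k = 1}
          one_mem' := ⟨one_mem V, 0, one_pow _⟩
          mul_mem' := by
            rintro a b ⟨ha, i, hi⟩ ⟨hb, j, hj⟩
            refine ⟨mul_mem ha hb, i + j, ?_⟩
            rw [Commute.mul_pow (hVc a ha b hb), pow_add, pow_mul, hi, one_pow, one_mul, mul_comm,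
              pow_mul, hj, one_pow]
          inv_mem' := by
            rintro a ⟨ha, i, hi⟩
            exact ⟨inv_mem ha, i, by rw [inv_pow, hi, inv_one]⟩ }
      have hPn : P.Normal := ⟨fun v hv g => ⟨hVn.conj_mem v hv.1 g, hv.2.choose, by
        rw [conj_pow, hv.2.choose_spec, mul_one, mul_inv_cancel]⟩⟩
      have hPi : D.Inv P :=
        ⟨fun v hv => ⟨hVi.1 v hv.1, hv.2.choose, by rw [← map_pow, hv.2.choose_spec, map_one]⟩,
          fun v hv => ⟨hVi.2 v hv.1, hv.2.choose, by rw [← map_pow, hv.2.choose_spec, map_one]⟩⟩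
      have hPV : P = V := (hVmin P hPn hPi fun v hv => hv.1).resolve_left fun h => by
        obtain ⟨v, hv⟩ := exists_prime_orderOf_dvd_card' (G := V) p hpd
        have : (v : G) ∈ P := ⟨v.2, 1, by
          rw [pow_one, ← hv, ← Subgroup.orderOf_coe]; exact pow_orderOf_eq_one _⟩
        rw [h, Subgroup.mem_bot] at this
        rw [← Subgroup.orderOf_coe, this, orderOf_one] at hv
        exact hp.one_lt.ne hv
      intro v
      obtain ⟨k, hk⟩ := ((hPV.symm ▸ v.2 : (v : G) ∈ P)).2
      exact ⟨k, Subtype.ext (by rw [SubmonoidClass.coe_pow, hk, Subgroup.coe_one])⟩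
    -- the image of the derived group is not a `p`-group
    set π := QuotientGroup.mk' V with hπ
    have hπs : Function.Surjective π := QuotientGroup.mk'_surjective V
    set Db := commutator (G ⧸ V) with hDb
    obtain ⟨q, hq, hqp, hqd⟩ : ∃ q : ℕ, q.Prime ∧ q ≠ p ∧ q ∣ Nat.card Db := by
      by_contra hcon
      push Not at hcon
      have hDp : IsPGroup p Db := IsPGroup.of_card
        (Nat.eq_prime_pow_of_unique_prime_dvd Nat.card_pos.ne' fun {d} hd hdd =>
          by_contra fun hne => hcon d hd hne hdd)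
      have hle : commutator G ≤ Db.comap π := by
        rw [← Subgroup.map_le_iff_le_comap, hDb, commutator_def, commutator_def,
          Subgroup.map_commutator]
        exact Subgroup.commutator_mono le_top le_top
      exact hnot (isNilpotent_commutator_of_le
        (hDp.comap_of_ker_isPGroup π (by rw [hπ, QuotientGroup.ker_mk']; exact hVp)).isNilpotent
        hle)
    haveI := Fact.mk hq
    let DQ := D.quotient h2 h3 V hVc hVi
    have hDbi : DQ.Inv Db := DQ.inv_of_characteristic inferInstance
    obtain ⟨Qs⟩ : Nonempty (Sylow q Db) := inferInstance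
    have hQsn : (Qs : Subgroup Db).Normal := by
      have hiff : Group.IsNilpotent Db ↔
          ∀ (p : ℕ) (_hp : Fact p.Prime) (P : Sylow p Db), (P : Subgroup Db).Normal :=
        (Group.isNilpotent_of_finite_tfae (G := Db)).out 0 3
      exact hiff.1 hVnil q ⟨hq⟩ Qs
    haveI hQchar : (Qs : Subgroup Db).Characteristic := Qs.characteristic_of_normal hQsn
    set Qb := (Qs : Subgroup Db).map Db.subtype with hQb
    have hQbn : Qb.Normal :=
      Cfsg.Agent.FittingCores.normal_map_of_characteristic (N := Db) inferInstance hQchar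
    have hQbi : DQ.Inv Qb := DQ.inv_map_subtype hDbi ((DQ.restrict Db hDbi).inv_of_characteristic hQchar)
    have hQbp : IsPGroup q Qb := Qs.isPGroup'.map _
    have hQbne : Qb ≠ ⊥ := by
      rw [hQb, Ne, Subgroup.map_eq_bot_iff_of_injective _ Db.subtype_injective]
      exact Qs.ne_bot_of_dvd_card hqd
    set T := Qb.comap π with hT
    haveI hTn : T.Normal := hQbn.comap π
    have hTi : D.Inv T := ⟨fun x hx => hQbi.1 _ hx, fun x hx => hQbi.2 _ hx⟩
    have hVT : V ≤ T := fun v hv => by
      rw [hT, Subgroup.mem_comap, hπ, QuotientGroup.mk'_apply, (QuotientGroup.eq_one_iff v).2 hv]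
      exact one_mem _
    obtain ⟨R₀⟩ : Nonempty (Sylow q T) := inferInstance
    set R := (R₀ : Subgroup T).map T.subtype with hR
    have hRp : IsPGroup q R := R₀.isPGroup'.map _
    have hRT : R ≤ T := Subgroup.map_subtype_le _
    have hVR : Disjoint V R := IsPGroup.disjoint_of_ne p q hqp.symm V R hVp hRp
    have hTsup : T ≤ V ⊔ R := by
      have h := Cfsg.Agent.FittingCores.eq_top_of_forall_sylow_le (G := T)
        (X := (V ⊔ R).subgroupOf T) (fun r hr => by
          by_cases hrq : r = q
          · subst hrq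
            exact ⟨R₀, fun y hy => Subgroup.mem_sup_right ⟨y, hy, rfl⟩⟩
          · haveI := Fact.mk hr
            refine ⟨default, fun y hy => Subgroup.mem_sup_left ?_⟩
            obtain ⟨i, hi⟩ := IsPGroup.iff_orderOf.1 (default : Sylow r T).isPGroup' ⟨y, hy⟩
            rw [Subgroup.orderOf_mk, ← Subgroup.orderOf_coe] at hi
            have hyQ : π (y : G) ∈ Qb := y.2
            obtain ⟨j, hj⟩ := IsPGroup.iff_orderOf.1 hQbp ⟨π (y : G), hyQ⟩
            replace hj : orderOf (π (y : G)) = q ^ j := (Subgroup.orderOf_coe _).trans hj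
            have h1 : orderOf (π (y : G)) ∣ r ^ i := hi ▸ orderOf_map_dvd π _
            have h2 : orderOf (π (y : G)) = 1 := Nat.eq_one_of_dvd_coprimes
              (((Nat.coprime_primes hr hq).2 hrq).pow i j) h1 (hj ▸ dvd_rfl)
            rw [orderOf_eq_one_iff, hπ, QuotientGroup.mk'_apply, QuotientGroup.eq_one_iff] at h2
            exact h2)
      exact Subgroup.subgroupOf_eq_top.1 h
    -- no element of `V` other than `1` normalizes `R`
    have hCT : V ⊓ Subgroup.centralizer (T : Set G) = ⊥ := by
      rcases hVmin (V ⊓ Subgroup.centralizer (T : Set G)) inferInstance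
        (D.inv_inf hVi (D.inv_centralizer hTi)) inf_le_left with h | h
      · exact h
      exfalso
      have hVcT : V ≤ Subgroup.centralizer (T : Set G) := h ▸ inf_le_right
      have hR₀n : (R₀ : Subgroup T).Normal := by
        rw [← Subgroup.normalizer_eq_top_iff, eq_top_iff]
        intro t _
        obtain ⟨v, hv, r, hr, ht⟩ :=
          (Cfsg.Agent.SolvBasic.mem_sup_iff_of_le_normalizer (H := R) (N := V)
            Subgroup.le_normalizer_of_normal).1 (hTsup t.2)
        obtain ⟨r', hr', rfl⟩ := hr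
        have e : t = (⟨v, hVT hv⟩ : T) * r' := Subtype.ext ht
        rw [e]
        refine mul_mem (Subgroup.center_le_normalizer _ ?_) (Subgroup.le_normalizer hr')
        exact Subgroup.mem_center_iff.2 fun s =>
          Subtype.ext (Subgroup.mem_centralizer_iff.1 (hVcT hv) _ s.2)
      haveI hR₀c := R₀.characteristic_of_normal hR₀n
      have hRn : R.Normal := Cfsg.Agent.FittingCores.normal_map_of_characteristic (N := T) hTn hR₀c
      have hRi : D.Inv R := D.inv_map_subtype hTi ((D.restrict T hTi).inv_of_characteristic hR₀c)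
      have hRne : R ≠ ⊥ := fun h0 => hQbne (by
        rw [← Subgroup.map_comap_eq_self_of_surjective hπs Qb, ← hT, eq_bot_iff,
          Subgroup.map_le_iff_le_comap, MonoidHom.comap_bot, hπ, QuotientGroup.ker_mk']
        rw [h0, sup_bot_eq] at hTsup
        exact hTsup)
      exact hVne (hVR.eq_bot_of_le (huniq R hRn hRi hRne))
    have hnorm : ∀ v ∈ V, v ∈ Subgroup.normalizer (R : Set G) → v = 1 := by
      intro v hv hvn
      have hcR : ∀ r ∈ R, r * v = v * r := by
        intro r hr
        have h1 : v * r * v⁻¹ * r⁻¹ ∈ R :=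
          mul_mem ((Subgroup.mem_normalizer_iff.1 hvn r).1 hr) (inv_mem hr)
        have h2 : v * r * v⁻¹ * r⁻¹ ∈ V := by
          rw [show v * r * v⁻¹ * r⁻¹ = v * (r * v⁻¹ * r⁻¹) by group]
          exact mul_mem hv (hVn.conj_mem _ (inv_mem hv) r)
        have h3 : v * r * v⁻¹ * r⁻¹ = 1 :=
          Subgroup.mem_bot.1 (hVR.le_bot ⟨h2, h1⟩)
        calc r * v = (v * r * v⁻¹ * r⁻¹) * (r * v) := by rw [h3, one_mul]
          _ = v * r := by group
      have : v ∈ V ⊓ Subgroup.centralizer (T : Set G) := ⟨hv, Subgroup.mem_centralizer_iff.2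
        fun t ht => by
          obtain ⟨w, hw, r, hr, rfl⟩ := (Cfsg.Agent.SolvBasic.mem_sup_iff_of_le_normalizer (H := R)
            (N := V) Subgroup.le_normalizer_of_normal).1 (hTsup ht)
          rw [mul_assoc, hcR r hr, ← mul_assoc, hVc w hw v hv, mul_assoc]⟩
      rwa [hCT, Subgroup.mem_bot] at this
    -- conjugates of `R` under `V`
    let sm : G → Subgroup G := fun v => mp (MulAut.conj v) R
    have hsm : ∀ v ∈ V, ∀ w ∈ V, sm v = sm w → v = w := by
      intro v hv w hw h
      have h' : mp (MulAut.conj (w⁻¹ * v)) R = R := by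
        rw [← Rep.mp_conj_mul]
        change mp (MulAut.conj w⁻¹) (sm v) = R
        rw [h]
        change mp (MulAut.conj w⁻¹) (mp (MulAut.conj w) R) = R
        rw [Rep.mp_conj_mul, inv_mul_cancel, Rep.mp_conj_one]
      exact (inv_mul_eq_one.1 (hnorm _ (mul_mem (inv_mem hw) hv) (Rep.mem_normalizer_of_mp h'))).symm
    have hsyl : ∀ σ : MulAut G, (∀ x ∈ T, σ x ∈ T) → ∃ v ∈ V, mp σ R = sm v := by
      intro σ hσ
      let σT : T →* T := (σ.toMonoidHom.comp T.subtype).codRestrict T fun x => hσ x x.2
      have hσTi : Function.Injective σT := fun a b h =>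
        Subtype.ext (σ.injective (congrArg Subtype.val h))
      let R₁ : Sylow q T := R₀.mapSurjective (Finite.injective_iff_surjective.1 hσTi)
      obtain ⟨t, ht⟩ := MulAction.exists_smul_eq T R₀ R₁
      obtain ⟨v, hv, r, hr, htv⟩ := (Cfsg.Agent.SolvBasic.mem_sup_iff_of_le_normalizer (H := R)
        (N := V) Subgroup.le_normalizer_of_normal).1 (hTsup t.2)
      refine ⟨v, hv, ?_⟩
      have h1 : (R₁ : Subgroup T).map T.subtype = mp σ R := by
        rw [Sylow.coe_mapSurjective, Subgroup.map_map, hR]
        change _ = ((R₀ : Subgroup T).map T.subtype).map σ.toMonoidHom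
        rw [Subgroup.map_map]
        congr 1
      have h2 : (R₁ : Subgroup T).map T.subtype = mp (MulAut.conj (t : G)) R := by
        rw [← ht, Sylow.coe_subgroup_smul, hR]
        change ((R₀ : Subgroup T).map (MulAut.conj t).toMonoidHom).map T.subtype
          = ((R₀ : Subgroup T).map T.subtype).map (MulAut.conj (t : G)).toMonoidHom
        rw [Subgroup.map_map, Subgroup.map_map]
        congr 1
      rw [← h1, h2, htv, ← Rep.mp_conj_mul]
      congr 1
      ext y
      rw [Rep.mem_mp]
      constructor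
      · rintro ⟨z, hz, rfl⟩
        exact mul_mem (mul_mem hr hz) (inv_mem hr)
      · intro hy
        exact ⟨r⁻¹ * y * r, mul_mem (mul_mem (inv_mem hr) hy) hr, by
          rw [MulAut.conj_apply]; group⟩
    obtain ⟨v₀, hv₀, hαR⟩ := hsyl D.α hTi.1
    obtain ⟨v₁, hv₁, hτR⟩ := hsyl D.τ hTi.2
    have hαsm : ∀ v, mp D.α (sm v) = sm (D.α v * v₀) := fun v => by
      change mp D.α (mp (MulAut.conj v) R) = _
      rw [Rep.mp_conj_comm, hαR]
      exact Rep.mp_conj_mul _ _ _
    have hτsm : ∀ v, mp D.τ (sm v) = sm (D.τ v * v₁) := fun v => by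
      change mp D.τ (mp (MulAut.conj v) R) = _
      rw [Rep.mp_conj_comm, hτR]
      exact Rep.mp_conj_mul _ _ _
    have hττ : ∀ X : Subgroup G, mp D.τ (mp D.τ X) = X := fun X => by
      simp only [mp, Subgroup.map_map]
      convert Subgroup.map_id X
      ext x
      exact D.τ2 x
    have hατ : ∀ X : Subgroup G, mp D.α (mp D.τ X) = mp D.τ (mp D.α (mp D.α X)) := fun X => by
      simp only [mp, Subgroup.map_map]
      congr 1
      ext x
      exact (D.rel2 x).symm
    have h1V : ∀ v ∈ V, D.α v * v₀ ∈ V := fun v hv => mul_mem (hVi.1 v hv) hv₀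
    have h2V : ∀ v ∈ V, D.τ v * v₁ ∈ V := fun v hv => mul_mem (hVi.2 v hv) hv₁
    -- a conjugate fixed by `α`
    have hnorm0 : D.α (D.α v₀) * D.α v₀ * v₀ = 1 := by
      have h := Rep.mp_α3 (D := D) (sm 1)
      rw [hαsm, hαsm, hαsm] at h
      have := hsm _ (h1V _ (h1V _ (h1V _ (one_mem V)))) _ (one_mem V) h
      simpa [map_mul, D.α3] using this
    obtain ⟨w₀, hw₀V, hw₀⟩ : ∃ w ∈ V, D.α w * v₀ = w := by
      obtain ⟨k, hk⟩ := exists_pow_root h3 (v₀ * v₀ * D.α v₀)
      have hm1 : D.α v₀ ∈ V := hVi.1 _ hv₀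
      have hm2 : D.α (D.α v₀) ∈ V := hVi.1 _ hm1
      refine ⟨(v₀ * v₀ * D.α v₀) ^ k, V.pow_mem (mul_mem (mul_mem hv₀ hv₀) hm1) k, ?_⟩
      set w := (v₀ * v₀ * D.α v₀) ^ k
      have hwV : w ∈ V := V.pow_mem (mul_mem (mul_mem hv₀ hv₀) hm1) k
      have hw3 : (D.α w) ^ 3 * v₀ ^ 3 = w ^ 3 := by
        rw [← map_pow, hk, map_mul, map_mul, pow_succ, pow_succ, pow_one]
        calc D.α v₀ * D.α v₀ * D.α (D.α v₀) * (v₀ * v₀ * v₀)
            = D.α v₀ * (D.α v₀ * (D.α (D.α v₀) * v₀)) * (v₀ * v₀) := by group
          _ = D.α v₀ * (D.α (D.α v₀) * D.α v₀ * v₀) * (v₀ * v₀) := by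
              rw [← mul_assoc (D.α v₀) (D.α (D.α v₀)), hVc _ hm1 _ hm2]
          _ = v₀ * v₀ * D.α v₀ := by
              rw [hnorm0, mul_one, hVc _ hm1 _ (mul_mem hv₀ hv₀)]
      refine mul_inv_eq_one.1 (eq_one_of_pow_eq_one h3 ?_)
      rw [Commute.mul_pow (hVc _ (h1V w hwV) _ (inv_mem hwV)),
        Commute.mul_pow (hVc _ (hVi.1 w hwV) _ hv₀), inv_pow, hw3, mul_inv_cancel]
    -- make it also fixed by `τ`
    set u := D.τ w₀ * v₁ * w₀⁻¹ with hu
    have huV : u ∈ V := mul_mem (h2V _ hw₀V) (inv_mem hw₀V)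
    have hX : mp D.α (sm w₀) = sm w₀ := by rw [hαsm, hw₀]
    have hY : mp D.τ (sm w₀) = sm (u * w₀) := by rw [hτsm, hu, inv_mul_cancel_right]
    have huα : D.α u = u := by
      have h := hατ (sm w₀)
      rw [hX, hX, hY, hαsm, map_mul, mul_assoc, hw₀] at h
      exact mul_right_cancel (hsm _ (mul_mem (hVi.1 _ huV) hw₀V) _ (mul_mem huV hw₀V) h)
    have huτ : D.τ u * u = 1 := by
      have h := hττ (sm w₀)
      rw [hY, hτsm, map_mul, mul_assoc] at h
      have e : D.τ w₀ * v₁ = u * w₀ := by rw [hu, inv_mul_cancel_right]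
      rw [e, ← mul_assoc] at h
      exact mul_eq_right.1 (hsm _ (mul_mem (mul_mem (hVi.2 _ huV) huV) hw₀V) _ hw₀V h)
    obtain ⟨i, hi⟩ := exists_pow_root h2 u
    set c := u ^ i * w₀ with hc
    have hcV : c ∈ V := mul_mem (V.pow_mem huV i) hw₀V
    set X := sm c with hXdef
    have hXα : mp D.α X = X := by
      rw [hXdef, hαsm, hc, map_mul, map_pow, huα, mul_assoc, hw₀]
    have hXτ : mp D.τ X = X := by
      have e : D.τ w₀ * v₁ = u * w₀ := by rw [hu, inv_mul_cancel_right]
      rw [hXdef, hτsm, hc, map_mul, map_pow, mul_assoc, e, eq_inv_of_mul_eq_one_left huτ, inv_pow]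
      congr 1
      conv_lhs => arg 2; arg 1; rw [← hi]
      rw [pow_two]; group
    have hXi : D.Inv X :=
      ⟨fun x hx => hXα ▸ ⟨x, hx, rfl⟩, fun x hx => hXτ ▸ ⟨x, hx, rfl⟩⟩
    -- the complement
    set H := Subgroup.normalizer (X : Set G) with hH
    have hHi : D.Inv H := D.inv_normalizer hXi
    have hHV : H ⊓ V = ⊥ := by
      rw [eq_bot_iff]
      rintro v ⟨hvH, hvV⟩
      rw [Subgroup.mem_bot]
      refine hnorm v hvV ?_
      rw [Subgroup.mem_normalizer_iff]
      intro r
      have h := (Subgroup.mem_normalizer_iff.1 hvH (c * r * c⁻¹))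
      have e : v * (c * r * c⁻¹) * v⁻¹ = c * (v * r * v⁻¹) * c⁻¹ := by
        calc v * (c * r * c⁻¹) * v⁻¹ = (v * c) * r * (v * c)⁻¹ := by group
          _ = (c * v) * r * (c * v)⁻¹ := by rw [hVc v hvV c hcV]
          _ = _ := by group
      have m : ∀ y, c * y * c⁻¹ ∈ X ↔ y ∈ R := fun y =>
        ⟨fun ⟨z, hz, hze⟩ => (MulAut.conj c).injective hze ▸ hz, fun hy => ⟨y, hy, rfl⟩⟩
      rw [e, m, m] at h
      exact h
    have hHtop : ∀ g, ∃ h ∈ H, ∃ v ∈ V, g = h * v := by
      intro g
      have hF := Sylow.normalizer_sup_eq_top (N := T) R₀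
      have hg : g ∈ V ⊔ Subgroup.normalizer (R : Set G) := by
        have : Subgroup.normalizer (R : Set G) ⊔ T ≤ V ⊔ Subgroup.normalizer (R : Set G) :=
          sup_le le_sup_right (hTsup.trans (sup_le_sup_left Subgroup.le_normalizer _))
        exact this (hF.ge trivial)
      obtain ⟨v, hv, k, hk, rfl⟩ := (Cfsg.Agent.SolvBasic.mem_sup_iff_of_le_normalizer
        (H := Subgroup.normalizer (R : Set G)) (N := V) Subgroup.le_normalizer_of_normal).1 hg
      refine ⟨c * k * c⁻¹, ?_, c * k⁻¹ * c⁻¹ * v * k, ?_, by group⟩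
      · rw [hH, Subgroup.mem_normalizer_iff]
        intro y
        constructor
        · rintro ⟨z, hz, rfl⟩
          refine ⟨k * z * k⁻¹, (Subgroup.mem_normalizer_iff.1 hk z).1 hz, ?_⟩
          simp only [MulEquiv.coe_toMonoidHom, MulAut.conj_apply]; group
        · rintro ⟨z, hz, hzy⟩
          refine ⟨k⁻¹ * z * k, ?_, ?_⟩
          · refine (Subgroup.mem_normalizer_iff.1 hk _).2 ?_
            rw [show k * (k⁻¹ * z * k) * k⁻¹ = z by group]; exact hz
          · simp only [MulEquiv.coe_toMonoidHom, MulAut.conj_apply] at hzy ⊢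
            calc c * (k⁻¹ * z * k) * c⁻¹ = c * k⁻¹ * c⁻¹ * (c * z * c⁻¹) * (c * k * c⁻¹) := by group
              _ = y := by rw [hzy]; group
      · rw [show c * k⁻¹ * c⁻¹ * v * k = c * (k⁻¹ * (c⁻¹ * v) * k) by group]
        refine mul_mem hcV ?_
        simpa using hVn.conj_mem _ (mul_mem (inv_mem hcV) hv) k⁻¹
    have hnormal_of : ∀ U : Subgroup G, U ≤ V → (∀ h ∈ H, ∀ x ∈ U, h * x * h⁻¹ ∈ U) →
        U.Normal := fun U hUV hUH => ⟨fun x hx g => by
      obtain ⟨h, hh, v, hv, rfl⟩ := hHtop g
      rw [show h * v * x * (h * v)⁻¹ = h * (v * x * v⁻¹) * h⁻¹ by group, hVc v hv x (hUV hx),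
        mul_inv_cancel_right]
      exact hUH h hh x hx⟩
    have hfaith : H ⊓ Subgroup.centralizer (V : Set G) = ⊥ := by
      by_contra hne
      have hn' : (H ⊓ Subgroup.centralizer (V : Set G)).Normal := ⟨fun x hx g => by
        obtain ⟨h, hh, v, hv, rfl⟩ := hHtop g
        have e : v * x * v⁻¹ = x := by
          rw [Subgroup.mem_centralizer_iff.1 hx.2 v hv, mul_inv_cancel_right]
        rw [show h * v * x * (h * v)⁻¹ = h * (v * x * v⁻¹) * h⁻¹ by group, e]
        exact ⟨H.mul_mem (H.mul_mem hh hx.1) (H.inv_mem hh),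
          ((inferInstance : (Subgroup.centralizer (V : Set G)).Normal)).conj_mem x hx.2 h⟩⟩
      have hle := huniq _ hn' (D.inv_inf hHi (D.inv_centralizer hVi)) hne
      exact hVne (le_bot_iff.1 (hHV ▸ le_inf (hle.trans inf_le_left) le_rfl))
    let DH := D.restrict H hHi
    have hpcore : ∀ P : Subgroup H, P.Normal → DH.Inv P → IsPGroup p P → P = ⊥ := by
      intro P hPn hPi hPp
      set P' := P.map H.subtype with hP'
      set U := V ⊓ Subgroup.centralizer (P' : Set G) with hU
      have hP'H : ∀ h ∈ H, ∀ y ∈ P', h⁻¹ * y * h ∈ P' := by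
        rintro h hh _ ⟨y, hy, rfl⟩
        exact ⟨_, hPn.conj_mem y hy ⟨h, hh⟩⁻¹, by simp⟩
      have hUn : U.Normal := hnormal_of U inf_le_left fun h hh x hx =>
        ⟨hVn.conj_mem x hx.1 h, Subgroup.mem_centralizer_iff.2 fun y hy => by
          have := Subgroup.mem_centralizer_iff.1 hx.2 _ (hP'H h hh y hy)
          calc y * (h * x * h⁻¹) = h * ((h⁻¹ * y * h) * x) * h⁻¹ := by group
            _ = h * (x * (h⁻¹ * y * h)) * h⁻¹ := by rw [this]
            _ = h * x * h⁻¹ * y := by group⟩
      have hUne : U ≠ ⊥ := by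
        letI act : MulAction P V :=
          MulAction.compHom V (((MulAut.conjNormal (H := V)).comp H.subtype).comp P.subtype)
        obtain ⟨v, hv, hv1⟩ := hPp.exists_fixed_point_of_prime_dvd_card_of_fixed_point V hpd (a := 1)
          (fun g => map_one (MulAut.conjNormal (H := V) ((g : H) : G)))
        intro h0
        refine hv1 (Subtype.ext ?_)
        symm
        rw [Subgroup.coe_one, ← Subgroup.mem_bot, ← h0]
        refine ⟨v.2, Subgroup.mem_centralizer_iff.2 ?_⟩
        rintro _ ⟨y, hy, rfl⟩
        have := congrArg Subtype.val (hv ⟨y, hy⟩)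
        exact mul_inv_eq_iff_eq_mul.1 this
      have hUV : V ≤ U := huniq U hUn
        (D.inv_inf hVi (D.inv_centralizer (D.inv_map_subtype hHi hPi))) hUne
      rw [← Subgroup.map_eq_bot_iff_of_injective P H.subtype_injective, eq_bot_iff, ← hfaith]
      exact le_inf (Subgroup.map_subtype_le P) fun y hy => Subgroup.mem_centralizer_iff.2 fun v hv =>
        (Subgroup.mem_centralizer_iff.1 (hUV hv).2 y hy).symm
    have hcop : ∀ N : Subgroup H, N.Normal → DH.Inv N → Group.IsNilpotent N →
        ¬ p ∣ Nat.card N := by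
      intro N hNn hNi hNnil hdvd
      obtain ⟨P⟩ : Nonempty (Sylow p N) := inferInstance
      have hPn : (P : Subgroup N).Normal := by
        have hiff : Group.IsNilpotent N ↔
            ∀ (r : ℕ) (_hr : Fact r.Prime) (P : Sylow r N), (P : Subgroup N).Normal :=
          (Group.isNilpotent_of_finite_tfae (G := N)).out 0 3
        exact hiff.1 hNnil p ⟨hp⟩ P
      haveI hPc := P.characteristic_of_normal hPn
      refine P.ne_bot_of_dvd_card hdvd ((Subgroup.map_eq_bot_iff_of_injective _
        N.subtype_injective).1 (hpcore _ (Cfsg.Agent.FittingCores.normal_map_of_characteristic hNn hPc)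
          (DH.inv_map_subtype hNi ((DH.restrict N hNi).inv_of_characteristic hPc))
          (P.isPGroup'.map _)))
    -- the derived group of the complement is nilpotent
    have hHmap : Function.Injective (π.comp H.subtype) := by
      rw [injective_iff_map_eq_one]
      intro h hh
      have hm : (h : G) ∈ H ⊓ V := ⟨h.2, by
        rwa [MonoidHom.comp_apply, Subgroup.coe_subtype, hπ, QuotientGroup.mk'_apply,
          QuotientGroup.eq_one_iff] at hh⟩
      rw [hHV, Subgroup.mem_bot] at hm
      exact Subtype.ext hm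
    haveI hHnil : Group.IsNilpotent (commutator H) :=
      isNilpotent_of_injective (commMap (π.comp H.subtype)) fun a b h =>
        Subtype.ext (hHmap (congrArg Subtype.val h))
    -- the representation
    let ρ : H →* AddMonoid.End (Additive V) :=
      { toFun := fun h => MonoidHom.toAdditive (MulAut.conjNormal (H := V) (h : G)).toMonoidHom
        map_one' := by
          refine AddMonoidHom.ext fun v => ?_
          change Additive.ofMul ((MulAut.conjNormal (H := V) ((1 : H) : G)) (Additive.toMul v)) = v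
          simp
        map_mul' := fun g h => by
          refine AddMonoidHom.ext fun v => ?_
          change Additive.ofMul ((MulAut.conjNormal (H := V) ((g * h : H) : G)) (Additive.toMul v)) = _
          rw [Subgroup.coe_mul, map_mul]
          rfl }
    have hρ : ∀ (h : H) (v : V),
        ((Additive.toMul (ρ h (Additive.ofMul v)) : V) : G) = h * v * (h : G)⁻¹ := fun h v => rfl
    letI : CommGroup V :=
      { (inferInstance : Group V) with mul_comm := fun a b => Subtype.ext (hVc _ a.2 _ b.2) }
    let DV := D.restrict V hVi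
    obtain ⟨k, hk⟩ := IsPGroup.iff_card.1 hVp
    have hV2 := h2.coprime_dvd_left (Subgroup.card_subgroup_dvd_card V)
    have hV3 := h3.coprime_dvd_left (Subgroup.card_subgroup_dvd_card V)
    let Rp : Rep DH (Additive V) :=
      { ρ := ρ
        a := MonoidHom.toAdditive DV.α.toMonoidHom
        t := MonoidHom.toAdditive DV.τ.toMonoidHom
        a3 := fun v => congrArg Additive.ofMul (DV.α3 (Additive.toMul v))
        t2 := fun v => congrArg Additive.ofMul (DV.τ2 (Additive.toMul v))
        rel := fun v => congrArg Additive.ofMul (DV.rel (Additive.toMul v))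
        hα := fun h v => congrArg Additive.ofMul (Subtype.ext (by
          change D.α ((h : G) * ((Additive.toMul v : V) : G) * (h : G)⁻¹) =
            D.α (h : G) * D.α ((Additive.toMul v : V) : G) * (D.α (h : G))⁻¹
          rw [map_mul, map_mul, map_inv]))
        hτ := fun h v => congrArg Additive.ofMul (Subtype.ext (by
          change D.τ ((h : G) * ((Additive.toMul v : V) : G) * (h : G)⁻¹) =
            D.τ (h : G) * D.τ ((Additive.toMul v : V) : G) * (D.τ (h : G))⁻¹
          rw [map_mul, map_mul, map_inv]))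
        fpf := fun v h h' => congrArg Additive.ofMul (DV.fpf (Additive.toMul v)
          (congrArg Additive.toMul h) (congrArg Additive.toMul h'))
        finH := inferInstance
        finW := inferInstance
        W2 := by rw [Nat.card_congr Additive.toMul]; exact hV2
        W3 := by rw [Nat.card_congr Additive.toMul]; exact hV3
        H2 := h2.coprime_dvd_left (Subgroup.card_subgroup_dvd_card H)
        H3 := h3.coprime_dvd_left (Subgroup.card_subgroup_dvd_card H)
        faithful := fun h hh => Subtype.ext (by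
          have : (h : G) ∈ H ⊓ Subgroup.centralizer (V : Set G) :=
            ⟨h.2, Subgroup.mem_centralizer_iff.2 fun v hv => by
              have e := congrArg (fun w : Additive V => ((Additive.toMul w : V) : G))
                (hh (Additive.ofMul ⟨v, hv⟩))
              simp only [hρ] at e
              exact (mul_inv_eq_iff_eq_mul.1 e).symm⟩
          rw [hfaith, Subgroup.mem_bot] at this
          exact this)
        irred := fun U hUρ hUa hUt => by
          let U' : Subgroup G := (AddSubgroup.toSubgroup' U).map V.subtype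
          have hmem : ∀ x : V, (x : G) ∈ U' ↔ Additive.ofMul x ∈ U := fun x =>
            ⟨fun ⟨y, hy, e⟩ => Subtype.ext e ▸ hy, fun h => ⟨x, h, rfl⟩⟩
          have hU'V : U' ≤ V := Subgroup.map_subtype_le _
          have hn' : U'.Normal := hnormal_of U' hU'V fun h hh x hx =>
            (hmem ⟨_, hVn.conj_mem x (hU'V hx) h⟩).2
              (hUρ ⟨h, hh⟩ _ ((hmem ⟨x, hU'V hx⟩).1 hx))
          have hi' : D.Inv U' :=
            ⟨fun x hx => (hmem ⟨_, hVi.1 x (hU'V hx)⟩).2 (hUa _ ((hmem ⟨x, hU'V hx⟩).1 hx)),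
              fun x hx => (hmem ⟨_, hVi.2 x (hU'V hx)⟩).2 (hUt _ ((hmem ⟨x, hU'V hx⟩).1 hx))⟩
          rcases hVmin U' hn' hi' hU'V with h | h
          · left
            refine (AddSubgroup.eq_bot_iff_forall _).2 fun w hw => ?_
            have := (hmem (Additive.toMul w)).2 hw
            rw [h, Subgroup.mem_bot] at this
            exact congrArg Additive.ofMul (Subtype.ext this : Additive.toMul w = 1)
          · right
            rw [eq_top_iff]
            intro w _
            have hw : ((Additive.toMul w : V) : G) ∈ U' := by rw [h]; exact (Additive.toMul w).2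
            exact (hmem (Additive.toMul w)).1 hw
        cop := fun N hNn hNi hNnil => by
          rw [Nat.card_congr Additive.toMul, hk]
          exact ((hp.coprime_iff_not_dvd.2 (hcop N hNn hNi hNnil)).symm).pow_right k }
    haveI : Group.IsSolvable H := inferInstance
    have hHsub : ∀ K : Subgroup H, DH.Inv K → K ≠ ⊤ → ∀ x ∈ K, ∀ y ∈ K, x * y = y * x := by
      intro K hKi hKne x hx y hy
      rw [← commutatorElement_eq_one_iff_mul_comm]
      set e := ⁅x, y⁆ with he
      set L := K.map H.subtype ⊔ V with hL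
      have hLi : D.Inv L := D.inv_sup (D.inv_map_subtype hHi hKi) hVi
      have hLne : L ≠ ⊤ := by
        intro htop
        refine hKne (eq_top_iff.2 fun h _ => ?_)
        obtain ⟨v, hv, z, hz, hze⟩ := (Cfsg.Agent.SolvBasic.mem_sup_iff_of_le_normalizer
          (H := K.map H.subtype) (N := V) Subgroup.le_normalizer_of_normal).1
          (show (h : G) ∈ V ⊔ K.map H.subtype by rw [sup_comm, ← hL, htop]; trivial)
        obtain ⟨z', hz', rfl⟩ := hz
        have : v ∈ H ⊓ V := ⟨by
          rw [show v = (h : G) * (H.subtype z')⁻¹ by rw [hze, mul_inv_cancel_right]]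
          exact H.mul_mem h.2 (H.inv_mem z'.2), hv⟩
        rw [hHV, Subgroup.mem_bot] at this
        rw [this, one_mul] at hze
        rwa [Subtype.ext hze]
      haveI hLnil := hIHsub L hLi hLne
      have hKL : ∀ z ∈ K, (z : G) ∈ L := fun z hz => Subgroup.mem_sup_left ⟨z, hz, rfl⟩
      have hecop : (orderOf (e : G)).Coprime p := by
        have hmem : e ∈ commutator H := by
          rw [commutator_def]; exact Subgroup.commutator_mem_commutator trivial trivial
        rw [Subgroup.orderOf_coe, Nat.coprime_comm, hp.coprime_iff_not_dvd]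
        exact fun hd => hcop _ inferInstance (DH.inv_of_characteristic inferInstance) hHnil
          (hd.trans (Subgroup.orderOf_dvd_natCard _ hmem))
      refine Rp.faithful e fun v => ?_
      obtain ⟨v, rfl⟩ := Additive.ofMul.surjective v
      apply Additive.toMul.injective
      apply Subtype.ext
      rw [hρ, toMul_ofMul]
      let eL : L := ⁅(⟨(x : G), hKL x hx⟩ : L), ⟨(y : G), hKL y hy⟩⁆
      have heL : (eL : G) = (e : G) := by
        simp [eL, he, commutatorElement_def]
      have heLm : eL ∈ commutator L := by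
        rw [commutator_def]; exact Subgroup.commutator_mem_commutator trivial trivial
      let vL : L := ⟨v, Subgroup.mem_sup_right v.2⟩
      have hwm : ⁅eL, vL⁆ ∈ commutator L := by
        rw [commutator_def]; exact Subgroup.commutator_mem_commutator trivial trivial
      set w := (e : G) * v * (e : G)⁻¹ * (v : G)⁻¹ with hw
      have hwL : ((⁅eL, vL⁆ : L) : G) = w := by
        simp [hw, heL, vL, commutatorElement_def]
      have hwV : w ∈ V := mul_mem (hVn.conj_mem _ v.2 _) (inv_mem v.2)
      obtain ⟨j, hj⟩ := IsPGroup.iff_orderOf.1 hVp ⟨w, hwV⟩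
      rw [Subgroup.orderOf_mk] at hj
      have hc' := Cfsg.Agent.FixedPointFreeThompson.commute_of_nilpotent (p := p)
        (x := (⟨⁅eL, vL⁆, hwm⟩ : commutator L)) (g := ⟨eL, heLm⟩) (k := j)
        (by rw [Subgroup.orderOf_mk, ← Subgroup.orderOf_coe, hwL]; exact hj)
        (by rw [Subgroup.orderOf_mk, ← Subgroup.orderOf_coe, heL]; exact hecop)
      have hce : (e : G) * w = w * e := by
        have := congrArg (fun z : commutator L => ((z : L) : G)) hc'
        simpa [hwL, heL] using this
      have hiter : ∀ i : ℕ, (e : G) ^ i * v * ((e : G) ^ i)⁻¹ = w ^ i * v := by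
        intro i
        induction i with
        | zero => simp
        | succ i ihi =>
          rw [pow_succ' (e : G), show (e : G) * (e : G) ^ i * v * ((e : G) * (e : G) ^ i)⁻¹ =
            (e : G) * ((e : G) ^ i * v * ((e : G) ^ i)⁻¹) * (e : G)⁻¹ by group, ihi,
            ← mul_assoc, (Commute.pow_right hce i).eq, pow_succ w, hw]
          group
      have hord := hiter (orderOf (e : G))
      rw [pow_orderOf_eq_one, one_mul, inv_one, mul_one, eq_comm, mul_eq_right] at hord
      have hw1 : w = 1 := orderOf_eq_one_iff.1 (Nat.eq_one_of_dvd_coprimes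
        (hecop.pow_right j) (orderOf_dvd_of_pow_eq_one hord) (hj ▸ dvd_rfl))
      rw [hw, mul_inv_eq_one] at hw1
      exact hw1
    -- contradiction
    have hcomm := Rp.comm hHsub
    refine Subgroup.ne_bot_iff_exists_ne_one.1 hQbne |>.elim fun z hz => ?_
    have hDb1 : Db = ⊥ := by
      rw [hDb, commutator_def, Subgroup.commutator_eq_bot_iff_le_centralizer]
      intro a _
      rw [Subgroup.mem_centralizer_iff]
      intro b _
      obtain ⟨a, rfl⟩ := hπs a
      obtain ⟨b, rfl⟩ := hπs b
      obtain ⟨ha, haH, va, hva, rfl⟩ := hHtop a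
      obtain ⟨hb, hbH, vb, hvb, rfl⟩ := hHtop b
      have e1 : π va = 1 := by
        rw [hπ, QuotientGroup.mk'_apply, QuotientGroup.eq_one_iff]; exact hva
      have e2 : π vb = 1 := by
        rw [hπ, QuotientGroup.mk'_apply, QuotientGroup.eq_one_iff]; exact hvb
      rw [map_mul, map_mul, e1, e2, mul_one, mul_one, ← map_mul, ← map_mul]
      exact congrArg π (congrArg Subtype.val (hcomm ⟨hb, hbH⟩ ⟨ha, haH⟩))
    have hzbot : (z : G ⧸ V) ∈ (⊥ : Subgroup (G ⧸ V)) :=
      hDb1 ▸ (Subgroup.map_subtype_le _ z.2 : (z : G ⧸ V) ∈ Db)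
    exact hz (Subtype.ext hzbot)

end Cfsg.Agent.S3Fpf
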