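import Cfsg.Agent.Lib.FiniteGroup.S3Fpf.Basic
import Mathlib.GroupTheory.Nilpotent
import Mathlib.GroupTheory.Solvable

/-!
Fixed-point-free actions of the symmetric group of degree three: the dichotomy for stable abelian
normal subgroups acting on a module without common fixed points.
-/

set_option autoImplicit false
set_option linter.style.haveILetI false

namespace Cfsg.Agent.S3Fpf

open scoped BigOperators

variable {H : Type*} [Group H] {W : Type*} [AddCommGroup W]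

/-- A module for `H` with compatible operators and no common fixed point. -/
structure Rep (D : Act H) (W : Type*) [AddCommGroup W] where
  ρ : H →* AddMonoid.End W
  a : AddMonoid.End W
  t : AddMonoid.End W
  a3 : ∀ v, a (a (a v)) = v
  t2 : ∀ v, t (t v) = v
  rel : ∀ v, t (a v) = a (a (t v))
  hα : ∀ h v, a (ρ h v) = ρ (D.α h) (a v)
  hτ : ∀ h v, t (ρ h v) = ρ (D.τ h) (t v)
  fpf : ∀ v, a v = v → t v = v → v = 0
  finH : Finite H
  finW : Finite W
  W2 : (Nat.card W).Coprime 2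
  W3 : (Nat.card W).Coprime 3
  H2 : (Nat.card H).Coprime 2
  H3 : (Nat.card H).Coprime 3
  faithful : ∀ h, (∀ v, ρ h v = v) → h = 1
  irred : ∀ U : AddSubgroup W, (∀ h, ∀ v ∈ U, ρ h v ∈ U) → (∀ v ∈ U, a v ∈ U) →
    (∀ v ∈ U, t v ∈ U) → U = ⊥ ∨ U = ⊤
  cop : ∀ N : Subgroup H, N.Normal → D.Inv N → Group.IsNilpotent N →
    (Nat.card N).Coprime (Nat.card W)

namespace Rep

variable {D : Act H} (R : Rep D W)

theorem ρmul (g h : H) (v : W) : R.ρ (g * h) v = R.ρ g (R.ρ h v) := by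
  rw [map_mul]; rfl

theorem ρone (v : W) : R.ρ 1 v = v := by rw [map_one]; rfl

theorem ρinv (h : H) (v : W) : R.ρ h⁻¹ (R.ρ h v) = v := by
  rw [← ρmul, inv_mul_cancel, ρone]

theorem ρinj (h : H) : Function.Injective (R.ρ h) := Function.LeftInverse.injective (R.ρinv h)

include R in
theorem eq_zero_of_nsmul {n : ℕ} (hn : n.Coprime (Nat.card W)) {v : W} (hv : n • v = 0) :
    v = 0 := by
  haveI := R.finW
  exact AddMonoid.addOrderOf_eq_one_iff.1 (Nat.eq_one_of_dvd_coprimes hn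
    (addOrderOf_dvd_iff_nsmul_eq_zero.2 hv) (addOrderOf_dvd_natCard v))

include R in
theorem eq_zero_of_add_self {v : W} (hv : v + v = 0) : v = 0 :=
  R.eq_zero_of_nsmul R.W2.symm (by rw [two_nsmul]; exact hv)

/-- The elements fixing a vector. -/
def stab (v : W) : Subgroup H where
  carrier := {g | R.ρ g v = v}
  one_mem' := R.ρone v
  mul_mem' := fun {g h} hg hh => by
    simp only [Set.mem_ofPred_eq] at hg hh ⊢
    rw [ρmul, hh, hg]
  inv_mem' := fun {g} hg => by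
    simp only [Set.mem_ofPred_eq] at hg ⊢
    nth_rw 1 [← hg]
    rw [ρinv]

theorem mem_stab {v : W} {g : H} : g ∈ R.stab v ↔ R.ρ g v = v := Iff.rfl

/-- The fixed points of a subgroup. -/
def fix (B : Subgroup H) : AddSubgroup W where
  carrier := {v | B ≤ R.stab v}
  zero_mem' := fun g _ => by rw [mem_stab, map_zero]
  add_mem' := fun {u v} hu hv g hg => by
    rw [mem_stab, map_add, R.mem_stab.1 (hu hg), R.mem_stab.1 (hv hg)]
  neg_mem' := fun {u} hu g hg => by rw [mem_stab, map_neg, R.mem_stab.1 (hu hg)]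

theorem mem_fix {B : Subgroup H} {v : W} : v ∈ R.fix B ↔ ∀ b ∈ B, R.ρ b v = v := Iff.rfl

theorem fix_sup {B C : Subgroup H} {v : W} (hB : v ∈ R.fix B) (hC : v ∈ R.fix C) :
    v ∈ R.fix (B ⊔ C) :=
  (sup_le (a := B) (b := C) (c := R.stab v) hB hC : _)

theorem fix_sup_zpowers {B : Subgroup H} {v : W} {g : H} (hB : v ∈ R.fix B) (hg : R.ρ g v = v) :
    v ∈ R.fix (B ⊔ Subgroup.zpowers g) :=
  R.fix_sup hB (Subgroup.zpowers_le.2 (R.mem_stab.2 hg) : Subgroup.zpowers g ≤ R.stab v)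

/-- Fixed vectors of `a` are negated by `t`. -/
theorem t_eq_neg {v : W} (hv : R.a v = v) : R.t v = -v := by
  have h1 : R.a (R.t v) = R.t v := by
    have h := congrArg R.a (R.rel v)
    rwa [hv, R.a3] at h
  exact eq_neg_of_add_eq_zero_right (R.fpf (v + R.t v) (by rw [map_add, hv, h1])
    (by rw [map_add, R.t2, add_comm]))

/-- Elements fixed by `α` fix the vectors fixed by `a`. -/
theorem fixed_fix {c : H} {v : W} (hc : D.α c = c) (hv : R.a v = v) : R.ρ c v = v := by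
  haveI := R.finH
  have h1 : R.a (R.ρ c v) = R.ρ c v := by rw [R.hα, hc, hv]
  have h2 := R.t_eq_neg h1
  rw [R.hτ, D.τ_eq_inv hc, R.t_eq_neg hv, map_neg] at h2
  have h3 : c ^ 2 ∈ R.stab v := by
    rw [mem_stab, pow_two, ρmul]
    have := congrArg (R.ρ c) (neg_inj.1 h2)
    rw [← ρmul R c c⁻¹, mul_inv_cancel, ρone] at this
    exact this.symm
  exact R.mem_stab.1 (mem_of_pow_mem R.H2 _ h3)

/-- Maximal subgroups of `N` with non-zero fixed points. -/
def IsMax (N B : Subgroup H) : Prop :=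
  B ≤ N ∧ R.fix B ≠ ⊥ ∧ ∀ B' : Subgroup H, B < B' → B' ≤ N → R.fix B' = ⊥

/-- Image of a subgroup under an automorphism. -/
abbrev mp (σ : MulAut H) (B : Subgroup H) : Subgroup H := B.map σ.toMonoidHom

omit [AddCommGroup W] in
theorem mem_mp {σ : MulAut H} {B : Subgroup H} {x : H} : x ∈ mp σ B ↔ ∃ y ∈ B, σ y = x := Iff.rfl

omit [AddCommGroup W] in
theorem mp_α3 (B : Subgroup H) : mp D.α (mp D.α (mp D.α B)) = B := by
  simp only [mp, Subgroup.map_map]
  convert Subgroup.map_id B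
  ext x
  exact D.α3 x

theorem fix_mp {σ : MulAut H} {s : AddMonoid.End W}
    (hs : ∀ h v, s (R.ρ h v) = R.ρ (σ h) (s v)) {B : Subgroup H} {v : W} (hv : v ∈ R.fix B) :
    s v ∈ R.fix (mp σ B) := by
  rintro _ ⟨y, hy, rfl⟩
  rw [mem_stab]
  change R.ρ (σ y) (s v) = s v
  rw [← hs, R.mem_fix.1 hv y hy]

theorem isMax_mp {σ σ' : MulAut H} {s s' : AddMonoid.End W}
    (hs : ∀ h v, s (R.ρ h v) = R.ρ (σ h) (s v)) (hs' : ∀ h v, s' (R.ρ h v) = R.ρ (σ' h) (s' v))
    (hσ : ∀ x, σ (σ' x) = x) (hσ' : ∀ x, σ' (σ x) = x) (hss : ∀ v, s' (s v) = v)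
    (hss' : ∀ v, s (s' v) = v) {N B : Subgroup H} (hN : ∀ x ∈ N, σ x ∈ N) (hN' : ∀ x ∈ N, σ' x ∈ N)
    (hB : R.IsMax N B) : R.IsMax N (mp σ B) := by
  refine ⟨?_, fun h => hB.2.1 ((AddSubgroup.eq_bot_iff_forall _).2 fun v hv => ?_),
    fun B' hlt hle => ?_⟩
  · rintro _ ⟨y, hy, rfl⟩
    exact hN y (hB.1 hy)
  · have h1 := R.fix_mp hs hv
    rw [h, AddSubgroup.mem_bot] at h1
    rw [← hss v, h1, map_zero]
  · have hlt' : B < mp σ' B' := by
      refine lt_of_le_of_ne (fun b hb => ⟨σ b, hlt.le ⟨b, hb, rfl⟩, hσ' b⟩) fun he => hlt.ne ?_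
      refine le_antisymm hlt.le fun x hx => ?_
      have : σ' x ∈ B := he ▸ ⟨x, hx, rfl⟩
      exact ⟨σ' x, this, hσ x⟩
    have hbot := hB.2.2 _ hlt' (by rintro _ ⟨y, hy, rfl⟩; exact hN' y (hle hy))
    refine (AddSubgroup.eq_bot_iff_forall _).2 fun v hv => ?_
    have h1 := R.fix_mp hs' hv
    rw [hbot, AddSubgroup.mem_bot] at h1
    rw [← hss' v, h1, map_zero]

theorem isMax_α {N B : Subgroup H} (hN : D.Inv N) (hB : R.IsMax N B) : R.IsMax N (mp D.α B) :=
  R.isMax_mp (σ' := D.α * D.α) (s := R.a) (s' := R.a * R.a) R.hα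
    (fun h v => by
      change R.a (R.a (R.ρ h v)) = R.ρ (D.α (D.α h)) (R.a (R.a v))
      rw [R.hα, R.hα])
    D.α3 D.α3 R.a3 R.a3 hN.1 (fun x hx => hN.1 _ (hN.1 x hx)) hB

theorem isMax_τ {N B : Subgroup H} (hN : D.Inv N) (hB : R.IsMax N B) : R.IsMax N (mp D.τ B) :=
  R.isMax_mp (σ' := D.τ) (s := R.t) (s' := R.t) R.hτ R.hτ D.τ2 D.τ2 R.t2 R.t2 hN.2 hN.2 hB

theorem conj_comm (g h : H) (v : W) :
    R.ρ g (R.ρ h v) = R.ρ (MulAut.conj g h) (R.ρ g v) := by
  rw [← ρmul, ← ρmul, MulAut.conj_apply]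
  congr 2
  group

theorem isMax_conj {N B : Subgroup H} (hNn : N.Normal) (g : H) (hB : R.IsMax N B) :
    R.IsMax N (mp (MulAut.conj g) B) :=
  R.isMax_mp (σ' := MulAut.conj g⁻¹) (s := R.ρ g) (s' := R.ρ g⁻¹) (R.conj_comm g) (R.conj_comm g⁻¹)
    (fun x => by simp only [MulAut.conj_apply]; group)
    (fun x => by simp only [MulAut.conj_apply]; group)
    (R.ρinv g) (fun v => by simpa using R.ρinv g⁻¹ v)
    (fun x hx => by simpa using hNn.conj_mem x hx g)
    (fun x hx => by simpa using hNn.conj_mem x hx g⁻¹) hB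

/-- The sum over a subgroup. -/
noncomputable def avg (B : Subgroup H) : W →+ W :=
  haveI := R.finH
  haveI := Fintype.ofFinite B
  ∑ b : B, R.ρ (b : H)

theorem avg_apply (B : Subgroup H) [Fintype B] (v : W) :
    R.avg B v = ∑ b : B, R.ρ (b : H) v := by
  classical
  haveI := R.finH
  unfold avg
  rw [Subsingleton.elim (Fintype.ofFinite B) ‹_›]
  exact AddMonoidHom.finsetSum_apply _ _ v

theorem avg_of_fix {B : Subgroup H} {v : W} (hv : v ∈ R.fix B) :
    R.avg B v = Nat.card B • v := by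
  classical
  haveI := R.finH
  haveI := Fintype.ofFinite B
  rw [avg_apply, Finset.sum_congr rfl (fun (b : B) _ => R.mem_fix.1 hv b b.2), Finset.sum_const,
    Finset.card_univ, Nat.card_eq_fintype_card]

theorem avg_mem_fix (B : Subgroup H) (v : W) : R.avg B v ∈ R.fix B := by
  classical
  haveI := R.finH
  haveI := Fintype.ofFinite B
  intro g hg
  rw [mem_stab, avg_apply, map_sum]
  simp only [← ρmul]
  exact Fintype.sum_equiv (Equiv.mulLeft (⟨g, hg⟩ : B)) _ _ fun b => rfl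

section Abelian

variable {N : Subgroup H} (hNn : N.Normal) (hNi : D.Inv N)
  (hNc : ∀ x ∈ N, ∀ y ∈ N, x * y = y * x)

include R

include hNn hNi hNc in
theorem coprime_N : (Nat.card N).Coprime (Nat.card W) := by
  refine R.cop N hNn hNi ?_
  letI : CommGroup N :=
    { (inferInstance : Group N) with mul_comm := fun x y => Subtype.ext (hNc _ x.2 _ y.2) }
  exact CommGroup.isNilpotent

include hNn hNi hNc in
theorem eq_zero_card {B : Subgroup H} (hB : B ≤ N) {v : W} (hv : Nat.card B • v = 0) : v = 0 :=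
  R.eq_zero_of_nsmul ((R.coprime_N hNn hNi hNc).coprime_dvd_left (Subgroup.card_dvd_of_le hB)) hv

include hNc in
theorem avg_of_ne {B B' : Subgroup H} (hB : R.IsMax N B) (hB' : R.IsMax N B') (hne : B ≠ B')
    {v : W} (hv : v ∈ R.fix B') : R.avg B v = 0 := by
  classical
  haveI := R.finH
  haveI := Fintype.ofFinite B
  have h1 : R.avg B v ∈ R.fix B' := by
    intro g hg
    rw [mem_stab, avg_apply, map_sum]
    refine Finset.sum_congr rfl fun b _ => ?_
    rw [← ρmul, hNc g (hB'.1 hg) b (hB.1 b.2), ρmul, R.mem_fix.1 hv g hg]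
  have hlt : B < B ⊔ B' := by
    refine left_lt_sup.2 fun hle => ?_
    exact hB.2.1 (hB'.2.2 B (lt_of_le_of_ne hle (Ne.symm hne)) hB.1)
  have h2 := R.fix_sup (R.avg_mem_fix B v) h1
  rw [hB.2.2 _ hlt (sup_le hB.1 hB'.1)] at h2
  exact AddSubgroup.mem_bot.1 h2

include hNn hNi hNc in
theorem disjoint {B B' : Subgroup H} (hB : R.IsMax N B) (hB' : R.IsMax N B') (hne : B ≠ B')
    {v : W} (hv : v ∈ R.fix B) (hv' : v ∈ R.fix B') : v = 0 :=
  R.eq_zero_card hNn hNi hNc hB.1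
    (by rw [← R.avg_of_fix hv, R.avg_of_ne hNc hB hB' hne hv'])

include hNn in
theorem fix_eq_bot [Nontrivial N] (hNi : D.Inv N) : R.fix N = ⊥ := by
  rcases R.irred (R.fix N)
    (fun h v hv n hn => by
      rw [mem_stab]
      have h1 := R.conj_comm h (MulAut.conj h⁻¹ n) v
      rw [show MulAut.conj h (MulAut.conj h⁻¹ n) = n by simp only [MulAut.conj_apply]; group,
        R.mem_fix.1 hv _ (by simpa using hNn.conj_mem n hn h⁻¹)] at h1
      exact h1.symm)
    (fun v hv n hn => by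
      rw [mem_stab]
      have h1 := R.hα (D.α (D.α n)) v
      rw [R.mem_fix.1 hv _ (hNi.1 _ (hNi.1 _ hn)), D.α3] at h1
      exact h1.symm)
    (fun v hv n hn => by
      rw [mem_stab]
      have h1 := R.hτ (D.τ n) v
      rw [R.mem_fix.1 hv _ (hNi.2 _ hn), D.τ2] at h1
      exact h1.symm) with h | h
  · exact h
  · exfalso
    obtain ⟨x, hx⟩ := exists_ne (1 : N)
    exact hx (Subtype.ext (R.faithful x fun v => R.mem_fix.1 (h ▸ AddSubgroup.mem_top v) x x.2))

theorem exists_max [Nontrivial N] : ∃ B, R.IsMax N B := by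
  haveI := R.finH
  have hW : R.fix (⊥ : Subgroup H) ≠ ⊥ := by
    intro h
    obtain ⟨x, hx⟩ := exists_ne (1 : N)
    refine hx (Subtype.ext (R.faithful x fun v => ?_))
    have hv : v ∈ R.fix (⊥ : Subgroup H) := fun g hg => by
      rw [Subgroup.mem_bot.1 hg]; exact one_mem _
    rw [h, AddSubgroup.mem_bot] at hv
    rw [hv, map_zero]
  obtain ⟨B, ⟨h1, h2⟩, hmax⟩ := Set.Finite.exists_maximal
    (s := {B : Subgroup H | B ≤ N ∧ R.fix B ≠ ⊥}) (Set.toFinite _) ⟨⊥, bot_le, hW⟩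
  exact ⟨B, h1, h2, fun B' hlt hle => by_contra fun h => hlt.not_ge (hmax ⟨hle, h⟩ hlt.le)⟩

/-- The additive subgroup generated by the fixed points over a stable family. -/
theorem family_top {S : Set (Subgroup H)} (hne : ∃ B ∈ S, R.fix B ≠ ⊥)
    (hc : ∀ B ∈ S, ∀ h, mp (MulAut.conj h) B ∈ S) (ha : ∀ B ∈ S, mp D.α B ∈ S)
    (ht : ∀ B ∈ S, mp D.τ B ∈ S) :
    AddSubgroup.closure {v : W | ∃ B ∈ S, v ∈ R.fix B} = ⊤ := by
  set U := AddSubgroup.closure {v : W | ∃ B ∈ S, v ∈ R.fix B}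
  have key : ∀ (s : AddMonoid.End W) (σ : MulAut H), (∀ h v, s (R.ρ h v) = R.ρ (σ h) (s v)) →
      (∀ B ∈ S, mp σ B ∈ S) → ∀ v ∈ U, s v ∈ U := by
    intro s σ hs hσ v hv
    refine (AddSubgroup.closure_le (K := U.comap s)).2 ?_ hv
    rintro u ⟨B, hB, hu⟩
    exact AddSubgroup.subset_closure ⟨_, hσ B hB, R.fix_mp hs hu⟩
  refine (R.irred U (fun h => key _ (MulAut.conj h) (R.conj_comm h) fun B hB => hc B hB h)
    (key _ _ R.hα ha) (key _ _ R.hτ ht)).resolve_left fun h => ?_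
  obtain ⟨B, hB, hB0⟩ := hne
  refine hB0 ((AddSubgroup.eq_bot_iff_forall _).2 fun v hv => ?_)
  have : v ∈ U := AddSubgroup.subset_closure ⟨B, hB, hv⟩
  rwa [h, AddSubgroup.mem_bot] at this

theorem kill {S : Set (Subgroup H)} (hne : ∃ B ∈ S, R.fix B ≠ ⊥)
    (hc : ∀ B ∈ S, ∀ h, mp (MulAut.conj h) B ∈ S) (ha : ∀ B ∈ S, mp D.α B ∈ S)
    (ht : ∀ B ∈ S, mp D.τ B ∈ S) {g : H} (hg : ∀ B ∈ S, ∀ v ∈ R.fix B, R.ρ g v = v) : g = 1 := by
  refine R.faithful g fun v => ?_
  have hv : v ∈ AddSubgroup.closure {v : W | ∃ B ∈ S, v ∈ R.fix B} :=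
    R.family_top hne hc ha ht ▸ AddSubgroup.mem_top v
  induction hv using AddSubgroup.closure_induction with
  | mem u hu => obtain ⟨B, hB, hu⟩ := hu; exact hg B hB u hu
  | zero => rw [map_zero]
  | add u w _ _ h1 h2 => rw [map_add, h1, h2]
  | neg u _ h1 => rw [map_neg, h1]

/-- On a stable set without fixed vectors, an abelian subgroup centralizes modulo fixed elements. -/
theorem commutator_fix {E : Subgroup H} (hEc : ∀ x ∈ E, ∀ y ∈ E, x * y = y * x)
    (hEα : ∀ x ∈ E, D.α x ∈ E) (hcop : (Nat.card E).Coprime (Nat.card W))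
    {U : AddSubgroup W} (hUa : ∀ v ∈ U, R.a v ∈ U) (hUE : ∀ x ∈ E, ∀ v ∈ U, R.ρ x v ∈ U)
    (h0 : ∀ v ∈ U, R.a v = v → v = 0) {x : H} (hx : x ∈ E) {v : W} (hv : v ∈ U) :
    R.ρ (x * (D.α x)⁻¹) v = v := by
  classical
  haveI := R.finH
  let M : Subgroup H :=
    { carrier := {m | ∃ e ∈ E, m = e * (D.α e)⁻¹}
      one_mem' := ⟨1, one_mem E, by simp⟩
      mul_mem' := by
        rintro _ _ ⟨e, he, rfl⟩ ⟨f, hf, rfl⟩
        refine ⟨e * f, mul_mem he hf, ?_⟩
        rw [map_mul, mul_inv_rev, mul_assoc, mul_assoc]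
        congr 1
        rw [← mul_assoc, ← mul_assoc]
        rw [hEc _ (inv_mem (hEα e he)) f hf, mul_assoc, mul_assoc]
        congr 1
        exact hEc _ (inv_mem (hEα e he)) _ (inv_mem (hEα f hf))
      inv_mem' := by
        rintro _ ⟨e, he, rfl⟩
        refine ⟨e⁻¹, inv_mem he, ?_⟩
        rw [mul_inv_rev, inv_inv, map_inv, inv_inv, hEc _ (hEα e he) _ (inv_mem he)] }
  have hME : M ≤ E := by
    rintro _ ⟨e, he, rfl⟩
    exact mul_mem he (inv_mem (hEα e he))
  have hMα : ∀ m ∈ M, D.α m ∈ M := by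
    rintro _ ⟨e, he, rfl⟩
    exact ⟨D.α e, hEα e he, by rw [map_mul, map_inv]⟩
  have hnorm : ∀ m ∈ M, m * D.α m * D.α (D.α m) = 1 := by
    rintro _ ⟨e, he, rfl⟩
    simp only [map_mul, map_inv, D.α3]
    group
  have hkey : ∀ m ∈ M, ∀ u ∈ U,
      u + R.ρ m (R.a u) + R.ρ (m * D.α m) (R.a (R.a u)) = 0 := by
    intro m hm u hu
    set w := u + R.ρ m (R.a u) + R.ρ (m * D.α m) (R.a (R.a u)) with hw
    have hgw : R.ρ m (R.a w) = w := by
      simp only [hw, map_add, R.hα, R.a3, ← ρmul]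
      rw [map_mul D.α, ← mul_assoc, hnorm m hm, ρone]
      abel
    have hwU : w ∈ U := add_mem (add_mem hu (hUE m (hME hm) _ (hUa u hu)))
      (hUE _ (hME (mul_mem hm (hMα m hm))) _ (hUa _ (hUa u hu)))
    obtain ⟨e, he, rfl⟩ := hm
    have hfix : R.a (R.ρ e⁻¹ w) = R.ρ e⁻¹ w := by
      rw [R.hα, map_inv]
      conv_rhs => rw [← hgw, ← ρmul, ← mul_assoc, inv_mul_cancel, one_mul]
    have h1 := h0 _ (hUE _ (inv_mem he) w hwU) hfix
    exact R.ρinj e⁻¹ (by rw [h1, map_zero])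
  haveI := Fintype.ofFinite M
  have hone : ∀ u ∈ U, R.a u + R.a (R.a u) = -u := fun u hu => by
    have := hkey 1 (one_mem M) u hu
    simp only [map_one, mul_one, AddMonoid.End.coe_one, id_eq, add_assoc] at this
    exact eq_neg_of_add_eq_zero_right this
  let b : M → M := fun m => ⟨(m : H) * D.α m, mul_mem m.2 (hMα _ m.2)⟩
  have hb : Function.Bijective b := by
    refine Finite.injective_iff_bijective.1 fun m m' h => ?_
    have h1 : (m : H) * D.α m = (m' : H) * D.α m' := congrArg Subtype.val h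
    have e1 := eq_inv_of_mul_eq_one_left (hnorm _ m.2)
    have e2 := eq_inv_of_mul_eq_one_left (hnorm _ m'.2)
    exact Subtype.ext (D.α.injective (D.α.injective (inv_injective (e1.symm.trans (h1.trans e2)))))
  have hsum : ∀ u ∈ U, R.avg M u = Nat.card M • u := by
    intro u hu
    have h1 : ∑ m : M, (u + R.ρ (m : H) (R.a u) + R.ρ ((m : H) * D.α m) (R.a (R.a u))) = 0 :=
      Finset.sum_eq_zero fun m _ => hkey _ m.2 u hu
    rw [Finset.sum_add_distrib, Finset.sum_add_distrib, Finset.sum_const, Finset.card_univ,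
      ← Nat.card_eq_fintype_card, ← avg_apply,
      show ∑ m : M, R.ρ ((m : H) * D.α m) (R.a (R.a u)) = R.avg M (R.a (R.a u)) by
        rw [avg_apply]
        exact hb.sum_comp (fun m : M => R.ρ (m : H) (R.a (R.a u))),
      add_assoc, ← map_add, hone u hu, map_neg, ← sub_eq_add_neg, sub_eq_zero] at h1
    exact h1.symm
  have hm : x * (D.α x)⁻¹ ∈ M := ⟨x, hx, rfl⟩
  have h1 := R.mem_fix.1 (R.avg_mem_fix M v) _ hm
  rw [hsum v hv, map_nsmul] at h1
  rw [← sub_eq_zero]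
  exact R.eq_zero_of_nsmul (hcop.coprime_dvd_left (Subgroup.card_dvd_of_le hME))
    (by rw [nsmul_sub, h1, sub_self])

include hNn hNi hNc in
/-- A component stable under `α`: `α` is trivial on the quotient. -/
theorem stable_component {B : Subgroup H} (hB : R.IsMax N B) (hαB : mp D.α B = B) {n : H}
    (hn : n ∈ N) : n * (D.α n)⁻¹ ∈ B := by
  haveI := R.finH
  haveI := R.finW
  classical
  have hU : ∀ v ∈ R.fix B, R.a v ∈ R.fix B := fun v hv => hαB ▸ R.fix_mp R.hα hv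
  have hUN : ∀ x ∈ N, ∀ v ∈ R.fix B, R.ρ x v ∈ R.fix B := fun x hx v hv g hg => by
    rw [mem_stab, ← ρmul, hNc g (hB.1 hg) x hx, ρmul, R.mem_fix.1 hv g hg]
  have semireg : ∀ g ∈ N, g ∉ B → ∀ u ∈ R.fix B, R.ρ g u = u → u = 0 := by
    intro g hg hgB u hu hgu
    have h1 := R.fix_sup_zpowers hu hgu
    rw [hB.2.2 _ (left_lt_sup.2 fun h => hgB (h (Subgroup.mem_zpowers g)))
      (sup_le hB.1 (Subgroup.zpowers_le.2 hg))] at h1
    exact AddSubgroup.mem_bot.1 h1
  by_contra hcon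
  by_cases h0 : ∀ v ∈ R.fix B, R.a v = v → v = 0
  · exact hB.2.1 ((AddSubgroup.eq_bot_iff_forall _).2 fun u hu => semireg _
      (mul_mem hn (inv_mem (hNi.1 n hn))) hcon u hu
      (R.commutator_fix hNc hNi.1 (R.coprime_N hNn hNi hNc) hU hUN h0 hn hu))
  push Not at h0
  obtain ⟨v, hv, hav, hv0⟩ := h0
  have hτB : mp D.τ B = B := by
    by_contra hne
    have h1 := R.fix_mp R.hτ hv
    rw [R.t_eq_neg hav] at h1
    exact hv0 (R.disjoint hNn hNi hNc hB (R.isMax_τ hNi hB) (Ne.symm hne) hv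
      (by simpa using neg_mem h1))
  have hτmem : ∀ x ∈ B, D.τ x ∈ B := fun x hx => hτB ▸ ⟨x, hx, rfl⟩
  have hαmem : ∀ x ∈ B, D.α x ∈ B := fun x hx => hαB ▸ ⟨x, hx, rfl⟩
  have hC : ∀ c ∈ N, D.α c = c → c ∈ B := fun c hc hcc => by_contra fun hcB =>
    hv0 (semireg c hc hcB v hv (R.fixed_fix hcc hav))
  have hfpf : ∀ x ∈ N, x * (D.α x)⁻¹ ∈ B → x ∈ B := by
    intro x hx h
    refine mem_of_pow_mem R.H3 B ?_
    have hx1 := hNi.1 x hx
    have hx2 := hNi.1 _ hx1
    have hprod : x * D.α x * D.α (D.α x) ∈ B := by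
      refine hC _ (mul_mem (mul_mem hx hx1) hx2) ?_
      rw [map_mul, map_mul, D.α3, hNc _ (mul_mem hx1 hx2) x hx, mul_assoc x]
    have h' : x * (D.α (D.α x))⁻¹ ∈ B := by
      have := mul_mem h (hαmem _ h)
      rwa [map_mul, map_inv, mul_assoc, inv_mul_cancel_left] at this
    have : x ^ 3 = x * D.α x * D.α (D.α x) * (x * (D.α x)⁻¹) * (x * (D.α (D.α x))⁻¹) := by
      letI : CommGroup N :=
        { (inferInstance : Group N) with mul_comm := fun x y => Subtype.ext (hNc _ x.2 _ y.2) }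
      have key : ∀ p q r : N, p ^ 3 = p * q * r * (p * q⁻¹) * (p * r⁻¹) := fun p q r => by
        rw [pow_succ, pow_succ, pow_one]
        apply Additive.ofMul.injective
        simp only [ofMul_mul, ofMul_inv]
        abel
      exact congrArg Subtype.val (key ⟨x, hx⟩ ⟨_, hx1⟩ ⟨_, hx2⟩)
    rw [this]
    exact mul_mem (mul_mem hprod h) h'
  have hnB : n ∉ B := fun h => hcon (mul_mem h (inv_mem (hαmem n h)))
  have hex : ∃ k : ℕ, 0 < k ∧ n ^ k ∈ B :=
    ⟨orderOf n, orderOf_pos n, by rw [pow_orderOf_eq_one]; exact one_mem B⟩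
  set k := Nat.find hex
  obtain ⟨hk0, hkB⟩ := Nat.find_spec hex
  have hk1 : k ≠ 1 := fun h => hnB (by rw [show Nat.find hex = 1 from h, pow_one] at hkB; exact hkB)
  set q := k.minFac
  have hq : q.Prime := Nat.minFac_prime hk1
  set n₁ := n ^ (k / q) with hn₁
  have hn₁N : n₁ ∈ N := N.pow_mem hn _
  have hn₁q : n₁ ^ q ∈ B := by rw [hn₁, ← pow_mul, Nat.div_mul_cancel k.minFac_dvd]; exact hkB
  have hn₁B : n₁ ∉ B := fun h => Nat.find_min hex
    (Nat.div_lt_self hk0 hq.one_lt) ⟨Nat.div_pos (Nat.minFac_le hk0) hq.pos, h⟩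
  have hqN : q ∣ Nat.card N := by
    by_contra hnd
    obtain ⟨m, hm⟩ := exists_pow_root (G := N) (Nat.coprime_comm.1 (hq.coprime_iff_not_dvd.2 hnd))
      ⟨n₁, hn₁N⟩
    refine hn₁B ?_
    have : (n₁ ^ m) ^ q = n₁ := congrArg Subtype.val hm
    rw [← this, ← pow_mul, mul_comm, pow_mul]
    exact B.pow_mem hn₁q m
  have hsq : ∀ x ∈ N, x * x ∈ B → x ∈ B := fun x _ h => mem_of_pow_mem R.H2 B (by rwa [pow_two])
  have hqpow : ∀ {x y : H}, x ∈ N → y ∈ N → x ^ q ∈ B → y ^ q ∈ B → (x * y) ^ q ∈ B := by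
    intro x y hx hy h h'
    rw [Commute.mul_pow (hNc x hx y hy)]
    exact mul_mem h h'
  have hn₂N := hNi.1 _ hn₁N
  have hn₂q : D.α n₁ ^ q ∈ B := by rw [← map_pow]; exact hαmem _ hn₁q
  have hτq : ∀ {x : H}, x ^ q ∈ B → D.τ x ^ q ∈ B := fun h => by
    rw [← map_pow]; exact hτmem _ h
  have hfin : ∀ y ∈ N, D.α y * (D.α (D.α y))⁻¹ ∈ B → y ∈ B := by
    intro y hy h
    refine hfpf y hy ?_
    have h2 := hαmem _ (hαmem _ h)
    simp only [map_mul, map_inv, D.α3] at h2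
    exact h2
  -- an element fixed by `τ` and an element inverted by `τ`, outside `B`
  obtain ⟨e, heN, heB, heq, heτ⟩ : ∃ e ∈ N, e ∉ B ∧ e ^ q ∈ B ∧ D.τ e = e := by
    have mk : ∀ x ∈ N, x ^ q ∈ B → x * D.τ x ∉ B →
        ∃ e ∈ N, e ∉ B ∧ e ^ q ∈ B ∧ D.τ e = e := fun x hx hxq hne =>
      ⟨x * D.τ x, mul_mem hx (hNi.2 x hx), hne, hqpow hx (hNi.2 x hx) hxq (hτq hxq), by
        rw [map_mul, D.τ2]; exact hNc _ (hNi.2 x hx) _ hx⟩
    by_cases h1 : n₁ * D.τ n₁ ∈ B
    · refine mk _ hn₂N hn₂q fun h2 => hn₁B ?_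
      rw [D.rel] at h2
      have h3 : (D.α (n₁ * D.τ n₁))⁻¹ * (D.α n₁ * D.α (D.α (D.τ n₁))) ∈ B :=
        mul_mem (inv_mem (hαmem _ h1)) h2
      rw [map_mul, mul_inv_rev, mul_assoc, inv_mul_cancel_left] at h3
      have h4 : D.τ n₁ ∈ B := hfin _ (hNi.2 _ hn₁N) (by
        have := inv_mem h3
        rw [mul_inv_rev, inv_inv] at this
        rwa [hNc _ (hNi.1 _ (hNi.2 _ hn₁N)) _
          (inv_mem (hNi.1 _ (hNi.1 _ (hNi.2 _ hn₁N))))])
      have := hτmem _ h4
      rwa [D.τ2] at this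
    · exact mk _ hn₁N hn₁q h1
  obtain ⟨f, hfN, hfB, hfq, hfτ⟩ : ∃ f ∈ N, f ∉ B ∧ f ^ q ∈ B ∧ D.τ f = f⁻¹ := by
    have mk : ∀ x ∈ N, x ^ q ∈ B → x * (D.τ x)⁻¹ ∉ B →
        ∃ f ∈ N, f ∉ B ∧ f ^ q ∈ B ∧ D.τ f = f⁻¹ := fun x hx hxq hne =>
      ⟨x * (D.τ x)⁻¹, mul_mem hx (inv_mem (hNi.2 x hx)), hne,
        hqpow hx (inv_mem (hNi.2 x hx)) hxq (by rw [inv_pow]; exact inv_mem (hτq hxq)), by
        rw [map_mul, map_inv, D.τ2, mul_inv_rev, inv_inv]⟩
    by_cases h1 : n₁ * (D.τ n₁)⁻¹ ∈ B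
    · refine mk _ hn₂N hn₂q fun h2 => hn₁B ?_
      rw [D.rel] at h2
      have h3 : (D.α (n₁ * (D.τ n₁)⁻¹))⁻¹ * (D.α n₁ * (D.α (D.α (D.τ n₁)))⁻¹) ∈ B :=
        mul_mem (inv_mem (hαmem _ h1)) h2
      rw [map_mul, map_inv, mul_inv_rev, inv_inv, mul_assoc, inv_mul_cancel_left] at h3
      have := hτmem _ (hfin _ (hNi.2 _ hn₁N) h3)
      rwa [D.τ2] at this
    · exact mk _ hn₁N hn₁q h1
  have hefB : ∀ i : ℕ, e * f ^ i ∉ B := by
    intro i h
    have h1 := hτmem _ h
    rw [map_mul, map_pow, heτ, hfτ, inv_pow] at h1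
    have h2 := mul_mem h h1
    rw [mul_assoc, ← mul_assoc (f ^ i), ← hNc e heN (f ^ i) (N.pow_mem hfN i), mul_assoc e (f ^ i),
      mul_inv_cancel, mul_one] at h2
    exact heB (hsq e heN h2)
  have cyc : ∀ g ∈ N, g ∉ B → g ^ q ∈ B → ∑ j ∈ Finset.range q, R.ρ (g ^ j) v = 0 := by
    intro g hg hgB hgq
    refine semireg g hg hgB _ (sum_mem fun j _ => hUN _ (N.pow_mem hg j) v hv) ?_
    rw [map_sum]
    simp only [← ρmul, ← pow_succ']
    have h1 := Finset.sum_range_succ' (fun j => R.ρ (g ^ j) v) q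
    have h2 := Finset.sum_range_succ (fun j => R.ρ (g ^ j) v) q
    rw [h2, pow_zero, ρone, R.mem_fix.1 hv _ hgq] at h1
    exact (add_right_cancel h1).symm
  have htot : ∑ i ∈ Finset.range q, ∑ j ∈ Finset.range q, R.ρ ((e * f ^ i) ^ j) v = 0 :=
    Finset.sum_eq_zero fun i _ => cyc _ (mul_mem heN (N.pow_mem hfN i)) (hefB i)
      (hqpow heN (N.pow_mem hfN i) heq (by rw [← pow_mul, mul_comm, pow_mul]; exact B.pow_mem hfq i))
  rw [Finset.sum_comm, Finset.sum_eq_single 0] at htot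
  · simp only [pow_zero, ρone, Finset.sum_const, Finset.card_range] at htot
    exact hv0 (R.eq_zero_of_nsmul ((R.coprime_N hNn hNi hNc).coprime_dvd_left hqN) htot)
  · intro j hj hj0
    have hcomm : ∀ i : ℕ, (e * f ^ i) ^ j = e ^ j * (f ^ j) ^ i := fun i => by
      rw [Commute.mul_pow (hNc e heN _ (N.pow_mem hfN i)), ← pow_mul, ← pow_mul,
        mul_comm i j]
    simp only [hcomm, ρmul, ← map_sum]
    rw [cyc (f ^ j) (N.pow_mem hfN j) (fun h => hfB ?_)
      (by rw [← pow_mul, mul_comm, pow_mul]; exact B.pow_mem hfq j), map_zero]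
    have hcop : j.Coprime q := (hq.coprime_iff_not_dvd.2
      (Nat.not_dvd_of_pos_of_lt (Nat.pos_of_ne_zero hj0) (Finset.mem_range.1 hj))).symm
    have hbz : (1 : ℤ) = (j : ℤ) * j.gcdA q + (q : ℤ) * j.gcdB q := by
      have := Nat.gcd_eq_gcd_ab j q
      rw [hcop.gcd_eq_one] at this
      exact_mod_cast this
    rw [← zpow_one f, hbz, zpow_add, zpow_mul, zpow_mul, zpow_natCast, zpow_natCast]
    exact mul_mem (B.zpow_mem h _) (B.zpow_mem hfq _)
  · intro h
    exact absurd (Finset.mem_range.2 hq.pos) h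

include hNn hNi hNc in
/-- On a component moved by `α` and stable under `τ`, the involution is `-1`. -/
theorem moved_component {B : Subgroup H} (hB : R.IsMax N B) (hαB : mp D.α B ≠ B)
    (hτB : mp D.τ B = B) {v : W} (hv : v ∈ R.fix B) : R.t v = -v := by
  haveI := R.finH
  have hB1 := R.isMax_α hNi hB
  have hB2 := R.isMax_α hNi hB1
  have h2ne : mp D.α (mp D.α B) ≠ B := fun h => hαB (by conv_rhs => rw [← mp_α3 (D := D) B, h])
  have key : R.t v + v = 0 := by
    have hs : R.a (v + R.a v + R.a (R.a v)) = v + R.a v + R.a (R.a v) := by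
      rw [map_add, map_add, R.a3]; abel
    have h1 := R.t_eq_neg hs
    have hrel : R.t (R.a (R.a v)) = R.a (R.t v) := by rw [R.rel, R.rel, R.a3]
    have h2 : (R.t v + v) + (R.a (R.a (R.t v)) + R.a (R.a v)) + (R.a (R.t v) + R.a v) = 0 := by
      simp only [map_add, R.rel, R.a3] at h1
      rw [← sub_eq_zero] at h1
      rw [← h1]
      abel
    set w := R.t v + v with hw
    have hwB : w ∈ R.fix B := add_mem (hτB ▸ R.fix_mp R.hτ hv) hv
    have h3 := congrArg (R.avg B) h2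
    rw [map_add, map_add, map_zero, R.avg_of_fix hwB,
      R.avg_of_ne hNc hB hB2 (Ne.symm h2ne) (v := R.a (R.a (R.t v)) + R.a (R.a v))
        (by rw [← map_add, ← map_add]; exact R.fix_mp R.hα (R.fix_mp R.hα hwB)),
      R.avg_of_ne hNc hB hB1 (Ne.symm hαB) (v := R.a (R.t v) + R.a v)
        (by rw [← map_add]; exact R.fix_mp R.hα hwB), add_zero, add_zero] at h3
    exact R.eq_zero_card hNn hNi hNc hB.1 h3
  exact eq_neg_of_add_eq_zero_left key

include hNn hNi hNc in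
/-- Some translate of a moved component under `α` is stable under `τ`. -/
theorem exists_stable {B : Subgroup H} (hB : R.IsMax N B) (hαB : mp D.α B ≠ B) :
    mp D.τ B = B ∨ mp D.τ B = mp D.α B ∨ mp D.τ B = mp D.α (mp D.α B) := by
  haveI := R.finH
  by_contra hcon
  push Not at hcon
  obtain ⟨c0, c1, c2⟩ := hcon
  refine hB.2.1 ((AddSubgroup.eq_bot_iff_forall _).2 fun v hv => ?_)
  have hBτ := R.isMax_τ hNi hB
  have hB1 := R.isMax_α hNi hB
  have hB2 := R.isMax_α hNi hB1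
  have hτ1 : mp D.τ (mp D.α B) = mp D.α (mp D.α (mp D.τ B)) := by
    simp only [mp, Subgroup.map_map]
    congr 1
    ext x
    exact D.rel x
  have hτ2' : mp D.τ (mp D.α (mp D.α B)) = mp D.α (mp D.τ B) := by
    simp only [mp, Subgroup.map_map]
    congr 1
    ext x
    exact D.rel2 x
  have hmp3 := fun C : Subgroup H => mp_α3 (D := D) C
  have hs : R.a (v + R.a v + R.a (R.a v)) = v + R.a v + R.a (R.a v) := by
    rw [map_add, map_add, R.a3]; abel
  have h1 := congrArg (R.avg B) (R.t_eq_neg hs)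
  have e0 := R.avg_of_ne hNc hB hBτ (Ne.symm c0) (R.fix_mp R.hτ hv)
  have e1 := R.avg_of_ne hNc hB (R.isMax_α hNi (R.isMax_α hNi hBτ))
    (fun h => c1 (by conv_rhs => rw [h, hmp3])) (R.fix_mp R.hα (R.fix_mp R.hα (R.fix_mp R.hτ hv)))
  have e2 := R.avg_of_ne hNc hB (R.isMax_α hNi hBτ)
    (fun h => c2 (by conv_rhs => rw [h, hmp3])) (R.fix_mp R.hα (R.fix_mp R.hτ hv))
  have hαB2 : B ≠ mp D.α (mp D.α B) := fun h => hαB (by conv_rhs => rw [← hmp3 B, ← h])
  have e3 := R.avg_of_ne hNc hB hB1 (Ne.symm hαB) (R.fix_mp R.hα hv)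
  have e4 := R.avg_of_ne hNc hB hB2 hαB2 (R.fix_mp R.hα (R.fix_mp R.hα hv))
  have hrel : R.t (R.a (R.a v)) = R.a (R.t v) := by rw [R.rel, R.rel, R.a3]
  simp only [map_add, map_neg, R.rel, R.a3, e0, e1, e2, e3, e4, R.avg_of_fix hv, add_zero,
    neg_zero] at h1
  exact R.eq_zero_card hNn hNi hNc hB.1 (neg_eq_zero.1 h1.symm)

include hNn hNi hNc in
/-- An abelian stable normal subgroup: `α` is trivial or fixed-point-free on it. -/
theorem dichotomy : (∀ n ∈ N, D.α n = n) ∨ (∀ n ∈ N, D.α n = n → n = 1) := by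
  haveI := R.finH
  rcases subsingleton_or_nontrivial N with hsub | hnt
  · exact Or.inl fun n hn => by
      have : (⟨n, hn⟩ : N) = 1 := Subsingleton.elim _ _
      rw [show n = 1 from congrArg Subtype.val this, map_one]
  have hfixN := R.fix_eq_bot hNn hNi
  obtain ⟨B₁, hB₁⟩ := R.exists_max (N := N)
  by_cases hex : ∃ B, R.IsMax N B ∧ mp D.α B = B
  · left
    obtain ⟨B₀, hB₀, hα₀⟩ := hex
    let S : Set (Subgroup H) := {B | ∃ h, B = mp (MulAut.conj h) B₀}
    have hS0 : B₀ ∈ S := ⟨1, by ext x; simp⟩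
    have hcomp : ∀ (σ : MulAut H) (h : H), mp σ (mp (MulAut.conj h) B₀) =
        mp (MulAut.conj (σ h)) (mp σ B₀) := fun σ h => by
      simp only [mp, Subgroup.map_map]
      congr 1
      ext x
      simp
    -- `τ` inverts `N` modulo `B₀`
    have hφ : ∀ n ∈ N, n * (D.α n)⁻¹ ∈ B₀ := fun n hn => R.stable_component hNn hNi hNc hB₀ hα₀ hn
    have hinv : ∀ n ∈ N, n * D.τ n ∈ B₀ := by
      intro n hn
      have h1 := hNi.1 n hn
      have h2 := hNi.1 _ h1
      have hc : D.α (n * D.α n * D.α (D.α n)) = n * D.α n * D.α (D.α n) := by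
        rw [map_mul, map_mul, D.α3, hNc _ (mul_mem h1 h2) n hn, mul_assoc n]
      have e := D.τ_eq_inv hc
      rw [map_mul, map_mul, D.rel, D.rel2] at e
      have ht := hNi.2 n hn
      refine mem_of_pow_mem R.H3 B₀ ?_
      have f1 := hφ n hn
      have f2 := hφ _ h1
      have f3 := hφ _ ht
      have f4 := hφ _ (hNi.1 _ ht)
      letI : CommGroup N :=
        { (inferInstance : Group N) with mul_comm := fun x y => Subtype.ext (hNc _ x.2 _ y.2) }
      have key : ∀ p q r P Q S : N, P * S * Q = (p * q * r)⁻¹ →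
          (p * P) ^ 3 = (p * q⁻¹) * (p * q⁻¹) * (q * r⁻¹) * ((P * Q⁻¹) * (P * Q⁻¹) * (Q * S⁻¹)) := by
        intro p q r P Q S hh
        rw [pow_succ, pow_succ, pow_one]
        apply Additive.ofMul.injective
        have hh' := congrArg Additive.ofMul hh
        simp only [ofMul_mul, ofMul_inv] at hh' ⊢
        linear_combination (norm := abel) hh'
      have := congrArg Subtype.val (key ⟨n, hn⟩ ⟨_, h1⟩ ⟨_, h2⟩ ⟨_, ht⟩ ⟨_, hNi.1 _ ht⟩
        ⟨_, hNi.1 _ (hNi.1 _ ht)⟩ (Subtype.ext e))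
      simp only [Subgroup.coe_mul, Subgroup.coe_inv, SubmonoidClass.coe_pow] at this
      rw [this]
      exact mul_mem (mul_mem (mul_mem f1 f1) f2) (mul_mem (mul_mem f3 f3) f4)
    have hτ₀ : mp D.τ B₀ = B₀ := by
      have hmem : ∀ x ∈ B₀, D.τ x ∈ B₀ := fun x hx => by
        have := mul_mem (inv_mem hx) (hinv x (hB₀.1 hx))
        rwa [inv_mul_cancel_left] at this
      refine le_antisymm ?_ fun x hx => ⟨D.τ x, hmem x hx, D.τ2 x⟩
      rintro _ ⟨x, hx, rfl⟩
      exact hmem x hx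
    have hne : ∃ B ∈ S, R.fix B ≠ ⊥ := ⟨B₀, hS0, hB₀.2.1⟩
    have hSc : ∀ B ∈ S, ∀ h, mp (MulAut.conj h) B ∈ S := by
      rintro _ ⟨k, rfl⟩ h
      refine ⟨h * k, ?_⟩
      simp only [mp, Subgroup.map_map, map_mul]
      rfl
    have hSα : ∀ B ∈ S, mp D.α B ∈ S := by
      rintro _ ⟨k, rfl⟩
      exact ⟨D.α k, by rw [hcomp, hα₀]⟩
    have hSτ : ∀ B ∈ S, mp D.τ B ∈ S := by
      rintro _ ⟨k, rfl⟩
      exact ⟨D.τ k, by rw [hcomp, hτ₀]⟩
    have hall : ∀ B, R.IsMax N B → mp D.α B = B := by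
      intro B hB
      by_contra hαB
      -- a conjugate of `B₀` moved by `α` and stable under `τ` is impossible
      have hmem : B ∈ S := by
        by_contra hBS
        refine hB.2.1 ((AddSubgroup.eq_bot_iff_forall _).2 fun v hv => ?_)
        refine R.eq_zero_card hNn hNi hNc hB.1 ?_
        rw [← R.avg_of_fix hv]
        have hv' : v ∈ AddSubgroup.closure {v : W | ∃ C ∈ S, v ∈ R.fix C} :=
          R.family_top hne hSc hSα hSτ ▸ AddSubgroup.mem_top v
        clear hv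
        induction hv' using AddSubgroup.closure_induction with
        | mem u hu =>
          obtain ⟨C, ⟨k, rfl⟩, hu⟩ := hu
          exact R.avg_of_ne hNc hB (R.isMax_conj hNn k hB₀) (fun e => hBS ⟨k, e⟩) hu
        | zero => rw [map_zero]
        | add u w _ _ e1 e2 => rw [map_add, e1, e2, add_zero]
        | neg u _ e1 => rw [map_neg, e1, neg_zero]
      obtain ⟨B', hB', hαB', hτB', ⟨h, rfl⟩⟩ :
          ∃ B', R.IsMax N B' ∧ mp D.α B' ≠ B' ∧ mp D.τ B' = B' ∧ B' ∈ S := by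
        have hB1 := R.isMax_α hNi hB
        have hinj : Function.Injective (mp D.α) := Subgroup.map_injective D.α.injective
        rcases R.exists_stable hNn hNi hNc hB hαB with e | e | e
        · exact ⟨B, hB, hαB, e, hmem⟩
        · refine ⟨_, R.isMax_α hNi hB1, fun e' => hαB (hinj (hinj e')), ?_, hSα _ (hSα _ hmem)⟩
          rw [show mp D.τ (mp D.α (mp D.α B)) = mp D.α (mp D.τ B) by
            simp only [mp, Subgroup.map_map]; congr 1; ext x; exact D.rel2 x, e]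
        · refine ⟨_, hB1, fun e' => hαB (hinj e'), ?_, hSα _ hmem⟩
          rw [show mp D.τ (mp D.α B) = mp D.α (mp D.α (mp D.τ B)) by
            simp only [mp, Subgroup.map_map]; congr 1; ext x; exact D.rel x, e]
          simp only [mp, Subgroup.map_map]
          congr 1
          ext x
          change D.α (D.α (D.α (D.α x))) = D.α x
          rw [D.α3]
      refine hB₀.2.1 (le_bot_iff.1 (hfixN ▸ fun v hv n hn => ?_))
      -- `τ` fixes `N` modulo the conjugate
      have hfixτ : ∀ m ∈ N, m⁻¹ * D.τ m ∈ mp (MulAut.conj h) B₀ := by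
        intro m hm
        by_contra hnot
        refine hB'.2.1 ((AddSubgroup.eq_bot_iff_forall _).2 fun u hu => ?_)
        have hmu : R.ρ m u ∈ R.fix (mp (MulAut.conj h) B₀) := fun g hg => by
          rw [mem_stab, ← ρmul, hNc g (hB'.1 hg) m hm, ρmul, R.mem_fix.1 hu g hg]
        have h1 := R.moved_component hNn hNi hNc hB' hαB' hτB' hmu
        rw [R.hτ, R.moved_component hNn hNi hNc hB' hαB' hτB' hu, map_neg, neg_inj] at h1
        have h2 : R.ρ (m⁻¹ * D.τ m) u = u := by rw [ρmul, h1, ρinv]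
        have h3 := R.fix_sup_zpowers hu h2
        rw [hB'.2.2 _ (left_lt_sup.2 fun hle => hnot (hle (Subgroup.mem_zpowers _)))
          (sup_le hB'.1 (Subgroup.zpowers_le.2 (mul_mem (inv_mem hm) (hNi.2 m hm))))] at h3
        exact AddSubgroup.mem_bot.1 h3
      set u := h⁻¹ * D.τ h with hu
      have hconj : ∀ x ∈ N, x * (u * x * u⁻¹) ∈ B₀ := by
        intro x hx
        have h0 := hfixτ (h * (D.τ x) * h⁻¹) (hNn.conj_mem _ (hNi.2 x hx) h)
        obtain ⟨b, hb, hbe⟩ := h0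
        have hbe' : h * b * h⁻¹ = (h * D.τ x * h⁻¹)⁻¹ * D.τ (h * D.τ x * h⁻¹) := hbe
        have hb' : b = (D.τ x)⁻¹ * (u * x * u⁻¹) := by
          calc b = h⁻¹ * (h * b * h⁻¹) * h := by group
            _ = _ := by rw [hbe', hu, map_mul, map_mul, map_inv, D.τ2]; group
        rw [hb'] at hb
        have := mul_mem (hinv x hx) hb
        rwa [mul_assoc, mul_inv_cancel_left] at this
      have hiter : ∀ k : ℕ, ∀ x ∈ N, (Even k → x⁻¹ * (u ^ k * x * (u ^ k)⁻¹) ∈ B₀) ∧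
          (Odd k → x * (u ^ k * x * (u ^ k)⁻¹) ∈ B₀) := by
        intro k
        induction k with
        | zero =>
          intro x _
          refine ⟨fun _ => ?_, fun h => absurd h (by simp)⟩
          simp
        | succ k ih =>
          intro x hx
          have hy : u * x * u⁻¹ ∈ N := hNn.conj_mem x hx u
          obtain ⟨i1, i2⟩ := ih _ hy
          have e : u ^ (k + 1) * x * (u ^ (k + 1))⁻¹ = u ^ k * (u * x * u⁻¹) * (u ^ k)⁻¹ := by
            rw [pow_succ]; group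
          refine ⟨fun hev => ?_, fun hod => ?_⟩
          · have h2 := mul_mem (inv_mem (hconj x hx)) (i2 (by rwa [Nat.even_add_one,
              Nat.not_even_iff_odd] at hev))
            rw [e]
            rwa [hNc x hx _ hy, mul_inv_rev, mul_assoc, inv_mul_cancel_left] at h2
          · have h2 := mul_mem (hconj x hx) (i1 (by rwa [Nat.odd_add_one,
              Nat.not_odd_iff_even] at hod))
            rw [e]
            rwa [mul_assoc, mul_inv_cancel_left] at h2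
      have hodd : Odd (orderOf u) :=
        Nat.coprime_two_right.1 (R.H2.coprime_dvd_left (orderOf_dvd_natCard u))
      have h5 := (hiter _ n hn).2 hodd
      rw [pow_orderOf_eq_one, one_mul, inv_one, mul_one] at h5
      exact R.mem_fix.1 hv n (mem_of_pow_mem R.H2 B₀ (by rwa [pow_two]))
    intro n hn
    refine (mul_inv_eq_one.1 (R.kill (S := {B | R.IsMax N B}) ⟨B₀, hB₀, hB₀.2.1⟩
      (fun B hB h => R.isMax_conj hNn h hB) (fun B hB => R.isMax_α hNi hB)
      (fun B hB => R.isMax_τ hNi hB) (g := n * (D.α n)⁻¹) fun B hB v hv =>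
      R.mem_fix.1 hv _ (R.stable_component hNn hNi hNc hB (hall B hB) hn))).symm
  · right
    push Not at hex
    intro c hc hcc
    refine R.kill (S := {B | R.IsMax N B}) ⟨B₁, hB₁, hB₁.2.1⟩
      (fun B hB h => R.isMax_conj hNn h hB) (fun B hB => R.isMax_α hNi hB)
      (fun B hB => R.isMax_τ hNi hB) fun B hB v hv => ?_
    have key : ∀ C, R.IsMax N C → mp D.τ C = C → ∀ w ∈ R.fix C, R.ρ c w = w := by
      intro C hC hτC w hw
      have hcw : R.ρ c w ∈ R.fix C := fun g hg => by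
        rw [mem_stab, ← ρmul, hNc g (hC.1 hg) c hc, ρmul, R.mem_fix.1 hw g hg]
      have h1 := R.moved_component hNn hNi hNc hC (hex C hC) hτC hcw
      rw [R.hτ, D.τ_eq_inv hcc, R.moved_component hNn hNi hNc hC (hex C hC) hτC hw, map_neg,
        neg_inj] at h1
      have h3 : c ^ 2 ∈ R.stab w := by
        rw [mem_stab, pow_two, ρmul, ← h1, ← ρmul R c c⁻¹, mul_inv_cancel, ρone]
      exact R.mem_stab.1 (mem_of_pow_mem R.H2 _ h3)
    have hca : ∀ w, R.ρ c (R.a w) = R.a w → R.ρ c w = w := fun w h => by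
      rw [← hcc, ← R.hα] at h
      simpa [R.a3] using congrArg (R.a ∘ R.a) h
    rcases R.exists_stable hNn hNi hNc hB (hex B hB) with e | e | e
    · exact key B hB e v hv
    · refine hca v (hca _ (key _ (R.isMax_α hNi (R.isMax_α hNi hB)) ?_ _
        (R.fix_mp R.hα (R.fix_mp R.hα hv))))
      rw [show mp D.τ (mp D.α (mp D.α B)) = mp D.α (mp D.τ B) by
        simp only [mp, Subgroup.map_map]; congr 1; ext x; exact D.rel2 x, e]
    · refine hca v (key _ (R.isMax_α hNi hB) ?_ _ (R.fix_mp R.hα hv))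
      rw [show mp D.τ (mp D.α B) = mp D.α (mp D.α (mp D.τ B)) by
        simp only [mp, Subgroup.map_map]; congr 1; ext x; exact D.rel x, e]
      simp only [mp, Subgroup.map_map]
      congr 1
      ext x
      change D.α (D.α (D.α (D.α x))) = D.α x
      rw [D.α3]

include hNn hNi hNc in
/-- If `α` is fixed-point-free on `N`, every component is moved. -/
theorem all_moved [Nontrivial N] (hfpf : ∀ n ∈ N, D.α n = n → n = 1) {B : Subgroup H}
    (hB : R.IsMax N B) : mp D.α B ≠ B := by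
  haveI := R.finH
  intro hαB
  let f : N → N := fun n => ⟨(n : H) * (D.α n)⁻¹, mul_mem n.2 (inv_mem (hNi.1 _ n.2))⟩
  have hf : Function.Injective f := by
    intro x y h
    have h' : (x : H) * (D.α x)⁻¹ = (y : H) * (D.α y)⁻¹ := congrArg Subtype.val h
    have h1 : D.α ((y : H)⁻¹ * x) = (y : H)⁻¹ * x := by
      rw [map_mul, map_inv]
      calc (D.α (y : H))⁻¹ * D.α x = (y : H)⁻¹ * ((y : H) * (D.α y)⁻¹) * D.α x := by group
        _ = (y : H)⁻¹ * x := by rw [← h']; group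
    exact Subtype.ext (inv_mul_eq_one.1 (hfpf _ (mul_mem (inv_mem y.2) x.2) h1)).symm
  have hle : N ≤ B := fun n hn => by
    obtain ⟨m, hm⟩ := Finite.injective_iff_surjective.1 hf ⟨n, hn⟩
    have : (m : H) * (D.α m)⁻¹ = n := congrArg Subtype.val hm
    rw [← this]
    exact R.stable_component hNn hNi hNc hB hαB m.2
  exact hB.2.1 (le_antisymm hB.1 hle ▸ R.fix_eq_bot hNn hNi)

include hNn hNi hNc in
/-- Every component has an `α`-translate which is stable under `τ`, where `t` is `-1`. -/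
theorem exists_neg [Nontrivial N] (hfpf : ∀ n ∈ N, D.α n = n → n = 1) {B : Subgroup H}
    (hB : R.IsMax N B) :
    ∃ i : ℕ, i < 3 ∧ ∃ B', B' = (mp D.α)^[i] B ∧ R.IsMax N B' ∧ mp D.τ B' = B' ∧
      ∀ v ∈ R.fix B', R.t v = -v := by
  have hm := R.all_moved hNn hNi hNc hfpf hB
  have hB1 := R.isMax_α hNi hB
  rcases R.exists_stable hNn hNi hNc hB hm with e | e | e
  · exact ⟨0, by norm_num, B, rfl, hB, e, fun v hv => R.moved_component hNn hNi hNc hB hm e hv⟩
  · have hB2 := R.isMax_α hNi hB1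
    have e' : mp D.τ (mp D.α (mp D.α B)) = mp D.α (mp D.α B) := by
      rw [show mp D.τ (mp D.α (mp D.α B)) = mp D.α (mp D.τ B) by
        simp only [mp, Subgroup.map_map]; congr 1; ext x; exact D.rel2 x, e]
    exact ⟨2, by norm_num, _, rfl, hB2, e', fun v hv =>
      R.moved_component hNn hNi hNc hB2 (R.all_moved hNn hNi hNc hfpf hB2) e' hv⟩
  · have e' : mp D.τ (mp D.α B) = mp D.α B := by
      rw [show mp D.τ (mp D.α B) = mp D.α (mp D.α (mp D.τ B)) by
        simp only [mp, Subgroup.map_map]; congr 1; ext x; exact D.rel x, e]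
      simp only [mp, Subgroup.map_map]
      congr 1
      ext x
      change D.α (D.α (D.α (D.α x))) = D.α x
      rw [D.α3]
    exact ⟨1, by norm_num, _, rfl, hB1, e', fun v hv =>
      R.moved_component hNn hNi hNc hB1 (R.all_moved hNn hNi hNc hfpf hB1) e' hv⟩

end Abelian

end Rep

end Cfsg.Agent.S3Fpf
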